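import Cfsg.Agent.Forms.UnitaryTransvections

/-!
# Eichler elements of `SU`

`IsE C g a w c`: `g` is the map `x ↦ x + h(x,a) w + (c h(x,a) - h(x,w)) a` for isotropic `a`, `w ⊥ a` and
`c + σ c + h(w,w) = 0`. With `w = 0` it is a transvection.
-/

set_option autoImplicit false

namespace CfsgLib.SUThreeUnipotent

open Matrix CfsgLib.RepBounds.Unit

variable {F : Type*} [Field F] [Fintype F] (C : ConjField F) {ι : Type*} [Fintype ι] [DecidableEq ι]

theorem herm_neg_r (u v : ι → F) : herm C u (-v) = -herm C u v := herm_neg_right C u v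

theorem app_zero (g : suG C ι) : app C g (0 : ι → F) = 0 := Matrix.mulVec_zero _

theorem app_neg (g : suG C ι) (x : ι → F) : app C g (-x) = -app C g x := Matrix.mulVec_neg _ _

theorem app_sub (g : suG C ι) (x y : ι → F) : app C g (x - y) = app C g x - app C g y :=
  Matrix.mulVec_sub _ _ _

theorem app_inv_eq {g : suG C ι} {x y : ι → F} (h : app C g x = y) : app C g⁻¹ y = x := by
  rw [← h, app_inv_app]

theorem herm_comm_zero {u v : ι → F} (h : herm C u v = 0) : herm C v u = 0 := by
  rw [← conj_herm, h, map_zero]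

/-- The predicate of an Eichler element. -/
def IsE (g : suG C ι) (a w : ι → F) (c : F) : Prop :=
  ∀ x, app C g x = x + herm C x a • w + (c * herm C x a - herm C x w) • a

/-- The underlying map. -/
def eMap (a w : ι → F) (c : F) : (ι → F) →ₗ[F] (ι → F) where
  toFun x := x + herm C x a • w + (c * herm C x a - herm C x w) • a
  map_add' x y := by simp only [herm_add_left, mul_add]; module
  map_smul' r x := by simp only [herm_smul_left, RingHom.id_apply]; module

/-- Existence of Eichler elements. -/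
theorem exists_isE {a w : ι → F} {c : F} (ha : herm C a a = 0) (hw : herm C w a = 0)
    (hc : c + C.σ c + herm C w w = 0) : ∃ g : suG C ι, IsE C g a w c := by
  have haw : herm C a w = 0 := herm_comm_zero C hw
  have hN : ∀ y, (LinearMap.toMatrix' (eMap C a w c) - 1) *ᵥ y =
      herm C y a • w + (c * herm C y a - herm C y w) • a := fun y => by
    rw [Matrix.sub_mulVec, LinearMap.toMatrix'_mulVec, Matrix.one_mulVec]
    simp only [eMap, LinearMap.coe_mk, AddHom.coe_mk]
    abel
  have hdet : (LinearMap.toMatrix' (eMap C a w c)).det = 1 := by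
    refine det_eq_one_of_cube _ (Matrix.ext_iff_mulVec.2 fun x => ?_)
    rw [pow_succ, pow_two, ← Matrix.mulVec_mulVec, ← Matrix.mulVec_mulVec, hN, hN, hN,
      Matrix.zero_mulVec]
    simp only [herm_add_left, herm_smul_left, hw, ha, haw, mul_zero, add_zero, zero_sub,
      zero_smul, zero_add, neg_smul, herm_neg_left, neg_zero, sub_self]
  refine ⟨⟨⟨_, hdet⟩, fun x y => ?_⟩, fun x => LinearMap.toMatrix'_mulVec _ _⟩
  show herm C (LinearMap.toMatrix' (eMap C a w c) *ᵥ x) (LinearMap.toMatrix' (eMap C a w c) *ᵥ y) = _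
  simp only [LinearMap.toMatrix'_mulVec, eMap, LinearMap.coe_mk, AddHom.coe_mk, herm_add_left,
    herm_smul_left, herm_add_right, herm_smul_right, ha, hw, haw, map_sub, map_mul, conj_herm]
  linear_combination (herm C x a * herm C a y) * hc

variable {C}

theorem IsE.unique {g g' : suG C ι} {a w : ι → F} {c : F} (h : IsE C g a w c) (h' : IsE C g' a w c) :
    g = g' := suG_ext C fun x => (h x).trans (h' x).symm

theorem IsE.conj {g : suG C ι} {a w : ι → F} {c : F} (h : IsE C g a w c) (k : suG C ι) :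
    IsE C (k * g * k⁻¹) (app C k a) (app C k w) c := by
  intro x
  rw [app_mul, app_mul, h, app_add, app_add, app_smul, app_smul, app_app_inv, herm_app_left,
    herm_app_left]

theorem IsE.mul {g g' : suG C ι} {a w w' : ι → F} {c c' : F} (h : IsE C g a w c)
    (h' : IsE C g' a w' c') (ha : herm C a a = 0) (hw : herm C w a = 0) (hw' : herm C w' a = 0) :
    IsE C (g * g') a (w + w') (c + c' - herm C w' w) := by
  intro x
  rw [app_mul, h', h]
  simp only [herm_add_left, herm_smul_left, herm_add_right, ha, hw', herm_comm_zero C hw]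
  module

theorem IsE.inv {g : suG C ι} {a w : ι → F} {c : F} (h : IsE C g a w c) (ha : herm C a a = 0)
    (hw : herm C w a = 0) (hc : c + C.σ c + herm C w w = 0) : IsE C g⁻¹ a (-w) (C.σ c) := by
  intro x
  refine app_inv_eq C ?_
  rw [h]
  simp only [herm_add_left, herm_smul_left, herm_neg_r, herm_neg_left, ha, hw, herm_comm_zero C hw,
    show herm C w w = -c - C.σ c from by linear_combination hc]
  module

theorem isE_smul {g : suG C ι} {a w : ι → F} {c r : F} :
    IsE C g (r • a) w c ↔ IsE C g a (C.σ r • w) (c * (r * C.σ r)) := by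
  refine forall_congr' fun x => ?_
  rw [herm_smul_right, herm_smul_right, C.invol, smul_smul, smul_smul]
  constructor <;> intro h <;> rw [h] <;> congr 1 <;> congr 1 <;> ring

theorem isE_self {g : suG C ι} {a : ι → F} {c r : F} :
    IsE C g a (r • a) c ↔ IsE C g a 0 (c + r - C.σ r) := by
  refine forall_congr' fun x => ?_
  rw [herm_smul_right, herm_zero_right, smul_zero, add_zero]
  constructor <;> intro h <;> rw [h] <;> module

theorem IsE.swap {g : suG C ι} {a b : ι → F} (h : IsE C g a b 0) : IsE C g b (-a) 0 := by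
  intro x
  rw [h, herm_neg_r]
  module

/-- The element lies in `H`. -/
def MemE (H : Subgroup (suG C ι)) (a w : ι → F) (c : F) : Prop := ∃ g ∈ H, IsE C g a w c

variable {H : Subgroup (suG C ι)}

theorem MemE.congr {a a' w w' : ι → F} {c c' : F} (h : MemE H a w c) (e1 : a = a') (e2 : w = w')
    (e3 : c = c') : MemE H a' w' c' := by subst e1 e2 e3; exact h

theorem memE_zero (H : Subgroup (suG C ι)) (a : ι → F) : MemE H a 0 0 :=
  ⟨1, one_mem H, fun x => by simp [app_one, herm_zero_right]⟩

theorem memE_zero_left (H : Subgroup (suG C ι)) (w : ι → F) (c : F) : MemE H (0 : ι → F) w c :=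
  ⟨1, one_mem H, fun x => by simp [app_one, herm_zero_right]⟩

theorem MemE.conj {a w : ι → F} {c : F} (h : MemE H a w c) {k : suG C ι} (hk : k ∈ H) :
    MemE H (app C k a) (app C k w) c := by
  obtain ⟨g, hg, hE⟩ := h
  exact ⟨_, mul_mem (mul_mem hk hg) (inv_mem hk), hE.conj k⟩

theorem MemE.mul {a w w' : ι → F} {c c' : F} (h : MemE H a w c) (h' : MemE H a w' c')
    (ha : herm C a a = 0) (hw : herm C w a = 0) (hw' : herm C w' a = 0) :
    MemE H a (w + w') (c + c' - herm C w' w) := by
  obtain ⟨g, hg, hE⟩ := h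
  obtain ⟨g', hg', hE'⟩ := h'
  exact ⟨_, mul_mem hg hg', hE.mul hE' ha hw hw'⟩

theorem MemE.inv {a w : ι → F} {c : F} (h : MemE H a w c) (ha : herm C a a = 0)
    (hw : herm C w a = 0) (hc : c + C.σ c + herm C w w = 0) : MemE H a (-w) (C.σ c) := by
  obtain ⟨g, hg, hE⟩ := h
  exact ⟨_, inv_mem hg, hE.inv ha hw hc⟩

theorem memE_smul {a w : ι → F} {c r : F} :
    MemE H (r • a) w c ↔ MemE H a (C.σ r • w) (c * (r * C.σ r)) :=
  exists_congr fun _ => and_congr Iff.rfl isE_smul

theorem memE_self {a : ι → F} {c r : F} : MemE H a (r • a) c ↔ MemE H a 0 (c + r - C.σ r) :=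
  exists_congr fun _ => and_congr Iff.rfl isE_self

theorem MemE.swap {a b : ι → F} (h : MemE H a b 0) : MemE H b (-a) 0 := by
  obtain ⟨g, hg, hE⟩ := h
  exact ⟨g, hg, hE.swap⟩

/-- Addition in the second vector. -/
theorem MemE.add {a b b' : ι → F} (h : MemE H a b 0) (h' : MemE H a b' 0) (ha : herm C a a = 0)
    (hb : herm C b a = 0) (hb' : herm C b' a = 0) (hbb : herm C b' b = 0) :
    MemE H a (b + b') 0 :=
  (h.mul h' ha hb hb').congr rfl rfl (by rw [hbb]; ring)

theorem MemE.neg {a b : ι → F} (h : MemE H a b 0) (ha : herm C a a = 0) (hb : herm C b a = 0)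
    (hbb : herm C b b = 0) : MemE H a (-b) 0 :=
  (h.inv ha hb (by rw [map_zero, hbb]; ring)).congr rfl rfl (map_zero _)

/-- Cancellation in the second vector. -/
theorem MemE.cancel {a b b' : ι → F} (h : MemE H a b 0) (h' : MemE H a (b + b') 0)
    (ha : herm C a a = 0) (hb : herm C b a = 0) (hb' : herm C b' a = 0) (hbb : herm C b' b = 0)
    (hb0 : herm C b b = 0) : MemE H a b' 0 := by
  refine ((h.neg ha hb hb0).add h' ha (by rw [herm_neg_left, hb, neg_zero])
    (by rw [herm_add_left, hb, hb', add_zero]) ?_).congr rfl (neg_add_cancel_left b b') rfl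
  rw [herm_neg_r, herm_add_left, hb0, hbb, add_zero, neg_zero]

theorem MemE.neg_left {a b : ι → F} (h : MemE H a b 0) : MemE H (-a) (-b) 0 := by
  rw [← neg_one_smul F a, memE_smul, map_neg, map_one, neg_one_smul, neg_neg, zero_mul]
  exact h

/-- Addition in the first vector. -/
theorem MemE.add_left {a a' b : ι → F} (h : MemE H a b 0) (h' : MemE H a' b 0) (hb : herm C b b = 0)
    (hab : herm C a b = 0) (hab' : herm C a' b = 0) (haa : herm C a' a = 0) :
    MemE H (a + a') b 0 := by
  have h1 := (h.swap.add h'.swap hb (by rw [herm_neg_left, hab, neg_zero])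
    (by rw [herm_neg_left, hab', neg_zero]) (by rw [herm_neg_left, herm_neg_r, haa, neg_neg])).swap.neg_left
  exact h1.congr (by abel) (neg_neg _) rfl

/-- Cancellation in the first vector. -/
theorem MemE.cancel_left {a a' b : ι → F} (h : MemE H a b 0) (h' : MemE H (a + a') b 0)
    (hb : herm C b b = 0) (hab : herm C a b = 0) (hab' : herm C a' b = 0) (haa : herm C a' a = 0)
    (ha0 : herm C a a = 0) : MemE H a' b 0 := by
  have h1 := (h.swap.cancel (b' := -a') (h'.swap.congr rfl (by abel) rfl) hb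
    (by rw [herm_neg_left, hab, neg_zero]) (by rw [herm_neg_left, hab', neg_zero])
    (by rw [herm_neg_left, herm_neg_r, haa, neg_neg])
    (by rw [herm_neg_left, herm_neg_r, ha0, neg_neg])).swap.neg_left
  exact h1.congr (neg_neg _) (neg_neg _) rfl

/-- A transvection at a sum of orthogonal isotropic vectors. -/
theorem memE_of_sum {a b : ι → F} {c : F} (hc : c ∈ C.skew) (ha : herm C a a = 0)
    (hb : herm C b b = 0) (hab : herm C a b = 0) (h : MemE H (a + b) 0 c) (h1 : MemE H a 0 c)
    (h2 : MemE H b 0 c) : MemE H a (c • b) 0 := by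
  obtain ⟨g, hg, hE⟩ := h
  obtain ⟨g1, hg1, hE1⟩ := h1.inv ha (herm_zero_left C a)
    (by rw [herm_zero_left, add_zero]; exact hc)
  obtain ⟨g2, hg2, hE2⟩ := h2.inv hb (herm_zero_left C b)
    (by rw [herm_zero_left, add_zero]; exact hc)
  refine ⟨g1 * g2 * g, mul_mem (mul_mem hg1 hg2) hg, fun x => ?_⟩
  rw [app_mul, app_mul, hE, hE2, hE1]
  simp only [herm_add_left, herm_add_right, herm_smul_left, herm_smul_right, herm_zero_left,
    herm_zero_right, herm_neg_left, herm_neg_r, neg_zero, ha, hb, hab, herm_comm_zero C hab, C.skew_eq hc]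
  module

/-- The converse of `memE_of_sum`. -/
theorem memE_sum {a b : ι → F} {c : F} (hc : c ∈ C.skew) (ha : herm C a a = 0)
    (hb : herm C b b = 0) (hab : herm C a b = 0) (h : MemE H a (c • b) 0) (h1 : MemE H a 0 c)
    (h2 : MemE H b 0 c) : MemE H (a + b) 0 c := by
  obtain ⟨g, hg, hE⟩ := h
  obtain ⟨g1, hg1, hE1⟩ := h1
  obtain ⟨g2, hg2, hE2⟩ := h2
  refine ⟨g1 * g2 * g, mul_mem (mul_mem hg1 hg2) hg, fun x => ?_⟩
  rw [app_mul, app_mul, hE, hE2, hE1]
  simp only [herm_add_left, herm_add_right, herm_smul_left, herm_smul_right, herm_zero_left,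
    herm_zero_right, ha, hb, hab, herm_comm_zero C hab, C.skew_eq hc]
  module

/-- The bilinearity defect of `T_{e + μ e'}`. -/
theorem memE_quadratic {a b : ι → F} {c μ ν : F} (hc : c ∈ C.skew) (ha : herm C a a = 0)
    (hb : herm C b b = 0) (hab : herm C a b = 0) (h0 : MemE H a 0 c)
    (h1 : MemE H (a + μ • b) 0 c) (h2 : MemE H (a + ν • b) 0 c)
    (h3 : MemE H (a + (μ + ν) • b) 0 c) :
    MemE H b 0 (c * (μ * C.σ ν + ν * C.σ μ)) := by
  have hba := herm_comm_zero C hab
  have hiso : ∀ r : F, herm C (a + r • b) (a + r • b) = 0 := fun r => by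
    simp only [herm_add_left, herm_add_right, herm_smul_left, herm_smul_right, ha, hb, hab, hba]
    ring
  obtain ⟨g0, hg0, hE0⟩ := h0
  obtain ⟨g1, hg1, hE1⟩ := h1.inv (hiso μ) (herm_zero_left C _)
    (by rw [herm_zero_left, add_zero]; exact hc)
  obtain ⟨g2, hg2, hE2⟩ := h2.inv (hiso ν) (herm_zero_left C _)
    (by rw [herm_zero_left, add_zero]; exact hc)
  obtain ⟨g3, hg3, hE3⟩ := h3
  refine ⟨g3 * g0 * g1 * g2, mul_mem (mul_mem (mul_mem hg3 hg0) hg1) hg2, fun x => ?_⟩
  rw [app_mul, app_mul, app_mul, hE2, hE1, hE0, hE3]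
  simp only [herm_add_left, herm_add_right, herm_smul_left, herm_smul_right, herm_zero_left,
    herm_zero_right, herm_neg_left, herm_neg_r, neg_zero, map_add, ha, hb, hab, hba, C.skew_eq hc]
  module

end CfsgLib.SUThreeUnipotent
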