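import Cfsg.Agent.SUThreeUnipotent.Frame

/-!
# Spanning transvection centres around a maximal totally isotropic subspace

If `H` contains all Eichler elements of a maximal totally isotropic `W` (of dimension at least two)
and its transvection centres span, then every isotropic vector is a centre and `H = ⊤`.
-/

set_option autoImplicit false

namespace CfsgLib.SUThreeUnipotent

open Matrix CfsgLib.RepBounds.Unit

variable {F : Type*} [Field F] [Fintype F] {C : ConjField F} {ι : Type*} [Fintype ι] [DecidableEq ι]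

/-- `v` is a centre: all its transvections lie in `H`. -/
def Centre (H : Subgroup (suG C ι)) (v : ι → F) : Prop := ∀ c ∈ C.skew, MemE H v 0 c

variable {H : Subgroup (suG C ι)}

theorem Centre.map {v : ι → F} (h : Centre H v) {g : suG C ι} (hg : g ∈ H) :
    Centre H (app C g v) := fun c hc => ((h c hc).conj hg).congr rfl (app_zero C g) rfl

theorem centre_smul {v : ι → F} (h : Centre H v) (r : F) : Centre H (r • v) := fun c hc => by
  rw [memE_smul, smul_zero]
  refine h _ ?_
  rw [C.mem_skew, map_mul, map_mul, C.invol, C.skew_eq hc]; ring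

theorem Centre.add {x y : ι → F} (hx : Centre H x) (hy : Centre H y)
    (hxy : herm C x y ≠ 0) (hs : herm C x y ∈ C.skew) : Centre H (x + y) := by
  obtain ⟨g, hg, hgE⟩ := hy (herm C x y)⁻¹ (ConjField.inv_mem C hs)
  have e : app C g x = x + y := by
    rw [hgE, herm_zero_right, smul_zero, add_zero, sub_zero, inv_mul_cancel₀ hxy, one_smul]
  exact e ▸ hx.map hg

/-- The functional of `w` on `W` is a multiple of that of `v`. -/
def Dep (C : ConjField F) (W : Submodule F (ι → F)) (v w : ι → F) : Prop :=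
  ∃ r : F, ∀ a ∈ W, herm C a w = r * herm C a v

/-- The data of the criterion. -/
structure Setup (H : Subgroup (suG C ι)) (W : Submodule F (ι → F)) : Prop where
  iso : ∀ a ∈ W, ∀ b ∈ W, herm C a b = 0
  maxi : ∀ v, herm C v v = 0 → (∀ a ∈ W, herm C a v = 0) → v ∈ W
  dim : ∀ v, ∃ a ∈ W, a ≠ 0 ∧ herm C a v = 0
  elems : ∀ a ∈ W, ∀ d ∈ W, ∀ c ∈ C.skew, MemE H a d c
  span : Submodule.span F {v | herm C v v = 0 ∧ Centre H v} = ⊤

variable {W : Submodule F (ι → F)}

/-- Every isotropic vector congruent to `v` modulo `W` is a centre. -/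
def Cls (H : Subgroup (suG C ι)) (W : Submodule F (ι → F)) (v : ι → F) : Prop :=
  ∀ d ∈ W, herm C (v + d) (v + d) = 0 → Centre H (v + d)

/-- Vectors with non-zero functional and centres in their class. -/
def Good (H : Subgroup (suG C ι)) (W : Submodule F (ι → F)) (v : ι → F) : Prop :=
  (∃ a ∈ W, herm C a v ≠ 0) ∧ Cls H W v

namespace Setup

variable (hS : Setup H W)

include hS in
theorem centre_W {a : ι → F} (ha : a ∈ W) : Centre H a :=
  fun c hc => hS.elems a ha 0 W.zero_mem c hc

include hS in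
theorem cls_of_centre {v : ι → F} (hv : herm C v v = 0) (hC : Centre H v) : Cls H W v := by
  intro d hd hvd
  by_cases hW : ∀ a ∈ W, herm C a v = 0
  · exact hS.centre_W (W.add_mem (hS.maxi v hv hW) hd)
  push Not at hW
  obtain ⟨a, ha, hav⟩ := hW
  have h1 : herm C v ((herm C a v)⁻¹ • a) = 1 := by
    rw [herm_smul_right, map_inv₀, conj_herm, ← conj_herm C a v, inv_mul_cancel₀]
    exact (map_ne_zero C.σ).2 hav
  have hskew : herm C v d ∈ C.skew := by
    rw [C.mem_skew, conj_herm]
    rw [herm_add_left, herm_add_right, herm_add_right, hv, hS.iso d hd d hd] at hvd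
    linear_combination hvd
  obtain ⟨g, hg, hgE⟩ := hS.elems _ (W.smul_mem (herm C a v)⁻¹ ha) d hd _ hskew
  have e : app C g v = v + d := by rw [hgE, h1]; module
  exact e ▸ hC.map hg

include hS in
theorem exists_iso {v : ι → F} (h : ∃ a ∈ W, herm C a v ≠ 0) :
    ∃ d ∈ W, herm C (v + d) (v + d) = 0 := by
  obtain ⟨a, ha, hav⟩ := h
  obtain ⟨r, hr⟩ : ∃ r : F, r + C.σ r = -herm C v v := by
    obtain ⟨t, ht⟩ := C.exists_trace_one
    refine ⟨-(herm C v v * t), ?_⟩
    rw [map_neg, map_mul, herm_self_fixed]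
    linear_combination -herm C v v * ht
  refine ⟨(r / herm C a v) • a, W.smul_mem _ ha, ?_⟩
  rw [herm_add_left, herm_add_right, herm_add_right, herm_smul_left, herm_smul_right,
    herm_smul_left, herm_smul_right, hS.iso a ha a ha, ← conj_herm C a v, ← map_mul,
    div_mul_cancel₀ _ hav]
  linear_combination hr

theorem not_dep_ne {v w : ι → F} (h : ¬ Dep C W v w) : ∃ a ∈ W, herm C a w ≠ 0 := by
  by_contra hh
  push Not at hh
  exact h ⟨0, fun a ha => by rw [hh a ha, zero_mul]⟩

theorem exists_sep {v w : ι → F} (h : ¬ Dep C W v w) :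
    ∃ d ∈ W, herm C d v = 0 ∧ herm C d w ≠ 0 := by
  by_contra hh
  push Not at hh
  by_cases hv : ∀ a ∈ W, herm C a v = 0
  · exact h ⟨0, fun a ha => by rw [hh a ha (hv a ha), zero_mul]⟩
  push Not at hv
  obtain ⟨b, hb, hbv⟩ := hv
  refine h ⟨herm C b w / herm C b v, fun a ha => ?_⟩
  have := hh (a - (herm C a v / herm C b v) • b) (W.sub_mem ha (W.smul_mem _ hb))
    (by rw [herm_sub_left, herm_smul_left, div_mul_cancel₀ _ hbv, sub_self])
  rw [herm_sub_left, herm_smul_left, sub_eq_zero] at this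
  rw [this]; ring

include hS in
theorem good_add {s t : ι → F} (hs : Good H W s) (ht : Good H W t) (hd : ¬ Dep C W t s) :
    Cls H W (s + t) := by
  obtain ⟨d₁, hd₁, hs1⟩ := hS.exists_iso hs.1
  obtain ⟨d₂, hd₂, ht1⟩ := hS.exists_iso ht.1
  obtain ⟨d, hdW, hdt, hds⟩ := exists_sep hd
  obtain ⟨a, has, ha0⟩ : ∃ a, a ∈ C.skew ∧ a ≠ 0 := C.exists_skew_ne
  set s' := s + d₁ with hs'
  set t' := t + d₂ with ht'
  have hdt' : herm C d t' = 0 := by rw [ht', herm_add_right, hdt, hS.iso d hdW d₂ hd₂, add_zero]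
  have hds' : herm C s' d ≠ 0 := by
    rw [hs', herm_add_left, hS.iso d₁ hd₁ d hdW, add_zero, ← conj_herm]
    exact (map_ne_zero C.σ).2 hds
  set μ := C.σ ((a - herm C s' t') / herm C s' d) with hμ
  set t'' := t' + μ • d with ht''
  clear_value t'' μ t' s'
  have ht2 : herm C t'' t'' = 0 := by
    rw [ht'', herm_add_left, herm_add_right, herm_add_right, herm_smul_left, herm_smul_right,
      herm_smul_left, herm_smul_right, ht1, hdt', herm_comm_zero C hdt', hS.iso d hdW d hdW]
    ring
  have hst : herm C s' t'' = a := by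
    rw [ht'', herm_add_right, herm_smul_right, hμ, C.invol, div_mul_cancel₀ _ hds', add_sub_cancel]
  have hCt : Centre H t'' := by
    have e : t'' = t + (d₂ + μ • d) := by rw [ht'', ht', add_assoc]
    rw [e] at ht2 ⊢
    exact ht.2 _ (W.add_mem hd₂ (W.smul_mem _ hdW)) ht2
  have hsum : herm C (s' + t'') (s' + t'') = 0 := by
    rw [herm_add_left, herm_add_right, herm_add_right, hs1, ht2, hst, ← conj_herm C s' t'', hst,
      C.skew_eq has]
    ring
  have hCs : Centre H s' := by rw [hs'] at hs1 ⊢; exact hs.2 d₁ hd₁ hs1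
  have hC := Centre.add hCs hCt (by rw [hst]; exact ha0) (by rw [hst]; exact has)
  intro e he hse
  have h := hS.cls_of_centre hsum hC (e - d₁ - (d₂ + μ • d))
    (W.sub_mem (W.sub_mem he hd₁) (W.add_mem hd₂ (W.smul_mem _ hdW)))
  have hE : s' + t'' + (e - d₁ - (d₂ + μ • d)) = s + t + e := by
    rw [ht'', ht', hs']; abel
  rw [hE] at h
  exact h hse

include hS in
theorem exists_other (v : ι → F) : ∃ g, herm C g g = 0 ∧ Centre H g ∧ ¬ Dep C W v g := by
  by_contra hh
  push Not at hh
  let L : Submodule F (ι → F) :=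
    { carrier := {w | Dep C W v w}
      zero_mem' := ⟨0, fun a _ => by rw [herm_zero_right, zero_mul]⟩
      add_mem' := by
        rintro x y ⟨r, hr⟩ ⟨r', hr'⟩
        exact ⟨r + r', fun a ha => by rw [herm_add_right, hr a ha, hr' a ha]; ring⟩
      smul_mem' := by
        rintro k x ⟨r, hr⟩
        exact ⟨C.σ k * r, fun a ha => by rw [herm_smul_right, hr a ha]; ring⟩ }
  have hle : Submodule.span F {w | herm C w w = 0 ∧ Centre H w} ≤ L :=
    Submodule.span_le.2 fun w hw => hh w hw.1 hw.2
  rw [hS.span] at hle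
  obtain ⟨a, ha, ha0, hav⟩ := hS.dim v
  obtain ⟨w, hw⟩ := exists_herm_eq C ha0 1
  obtain ⟨r, hr⟩ := hle (Submodule.mem_top (x := w))
  have := hr a ha
  rw [← conj_herm C w a, hw, map_one, hav, mul_zero] at this
  exact one_ne_zero this

include hS in
theorem good_of_centre {g : ι → F} (hg : herm C g g = 0) (hC : Centre H g)
    (h : ∃ a ∈ W, herm C a g ≠ 0) : Good H W g := ⟨h, hS.cls_of_centre hg hC⟩

theorem good_smul {v : ι → F} (hv : Good H W v) {r : F} (hr : r ≠ 0) : Good H W (r • v) := by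
  obtain ⟨⟨a, ha, hav⟩, hc⟩ := hv
  refine ⟨⟨a, ha, by rw [herm_smul_right]; exact mul_ne_zero ((map_ne_zero C.σ).2 hr) hav⟩,
    fun d hd h => ?_⟩
  have e : r • v + d = r • (v + r⁻¹ • d) := by rw [smul_add, smul_smul, mul_inv_cancel₀ hr, one_smul]
  rw [e] at h ⊢
  rw [herm_smul_left, herm_smul_right, mul_eq_zero, or_iff_right hr, mul_eq_zero,
    or_iff_right ((map_ne_zero C.σ).2 hr)] at h
  exact centre_smul (hc _ (W.smul_mem _ hd) h) r

theorem good_neg {v : ι → F} (hv : Good H W v) : Good H W (-v) := by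
  rw [← neg_one_smul F v]; exact good_smul hv (by simp)

/-- Translation by `v` preserves good vectors whenever the functional stays non-zero. -/
def Shift (H : Subgroup (suG C ι)) (W : Submodule F (ι → F)) (v : ι → F) : Prop :=
  ∀ w, Good H W w → (∃ a ∈ W, herm C a (v + w) ≠ 0) → Good H W (v + w)

include hS in
theorem shift_smul {v : ι → F} (h : Shift H W v) (r : F) : Shift H W (r • v) := by
  intro w hw hne
  by_cases hr : r = 0
  · rw [hr, zero_smul, zero_add]; exact hw
  obtain ⟨a, ha, hne⟩ := hne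
  have e : r • v + w = r • (v + r⁻¹ • w) := by rw [smul_add, smul_smul, mul_inv_cancel₀ hr, one_smul]
  rw [e] at hne ⊢
  rw [herm_smul_right] at hne
  exact good_smul (h _ (good_smul hw (inv_ne_zero hr)) ⟨a, ha, right_ne_zero_of_mul hne⟩) hr

include hS in
theorem shift_add {v₁ v₂ : ι → F} (h₁ : Shift H W v₁) (h₂ : Shift H W v₂) :
    Shift H W (v₁ + v₂) := by
  intro w hw hne
  by_cases e₁ : ∃ a ∈ W, herm C a (v₁ + w) ≠ 0
  · have h := h₂ _ (h₁ w hw e₁)
    rw [← add_assoc, add_comm v₂ v₁] at h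
    exact h hne
  by_cases e₂ : ∃ a ∈ W, herm C a (v₂ + w) ≠ 0
  · have h := h₁ _ (h₂ w hw e₂)
    rw [← add_assoc] at h
    exact h hne
  push Not at e₁ e₂
  have f₁ : ∀ a ∈ W, herm C a v₁ = -herm C a w := fun a ha => by
    have := e₁ a ha; rw [herm_add_right] at this; linear_combination this
  have f₂ : ∀ a ∈ W, herm C a v₂ = -herm C a w := fun a ha => by
    have := e₂ a ha; rw [herm_add_right] at this; linear_combination this
  obtain ⟨g, hg, hgC, hgd⟩ := hS.exists_other w
  have hgG := hS.good_of_centre hg hgC (not_dep_ne hgd)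
  obtain ⟨d, hd, hdw, hdg⟩ := exists_sep hgd
  obtain ⟨⟨b, hb, hbw⟩, -⟩ := id hw
  have hw' : Good H W (g + w) :=
    ⟨⟨d, hd, by rw [herm_add_right, hdw, add_zero]; exact hdg⟩, hS.good_add hgG hw hgd⟩
  have hx1 := h₁ _ hw' ⟨d, hd, by
    rw [herm_add_right, herm_add_right, f₁ d hd, hdw]; simpa using hdg⟩
  have hx2 := h₂ _ hx1 ⟨d, hd, by
    rw [herm_add_right, herm_add_right, herm_add_right, f₁ d hd, f₂ d hd, hdw]; simpa using hdg⟩
  have hdep : ¬ Dep C W (-g) (v₂ + (v₁ + (g + w))) := by
    rintro ⟨r, hr⟩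
    have h1 := hr d hd
    rw [herm_add_right, herm_add_right, herm_add_right, f₁ d hd, f₂ d hd, hdw, herm_neg_r] at h1
    have hr1 : r = -1 := by
      have : (r + 1) * herm C d g = 0 := by linear_combination h1
      exact eq_neg_of_add_eq_zero_left ((mul_eq_zero.1 this).resolve_right hdg)
    have h2 := hr b hb
    rw [herm_add_right, herm_add_right, herm_add_right, f₁ b hb, f₂ b hb, herm_neg_r, hr1] at h2
    exact hbw (by linear_combination -h2)
  refine ⟨hne, ?_⟩
  have h := hS.good_add hx2 (good_neg hgG) hdep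
  rwa [show v₂ + (v₁ + (g + w)) + -g = v₁ + v₂ + w by abel] at h

include hS in
theorem shift_centre {g : ι → F} (hg : herm C g g = 0) (hC : Centre H g) : Shift H W g := by
  intro w hw hne
  refine ⟨hne, ?_⟩
  by_cases hgW : ∃ a ∈ W, herm C a g ≠ 0
  swap
  · push Not at hgW
    intro e he h
    have hmem := hS.maxi g hg hgW
    rw [show g + w + e = w + (g + e) by abel] at h ⊢
    exact hw.2 _ (W.add_mem hmem he) h
  have hgG := hS.good_of_centre hg hC hgW
  by_cases hd : Dep C W w g
  · obtain ⟨r, hr⟩ := hd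
    obtain ⟨k, hk, hkC, hkd⟩ := hS.exists_other w
    have hkG := hS.good_of_centre hk hkC (not_dep_ne hkd)
    obtain ⟨d, hdW, hdw, hdk⟩ := exists_sep hkd
    obtain ⟨a, ha, hne⟩ := hne
    have hne' : (r + 1) * herm C a w ≠ 0 := by
      rw [herm_add_right, hr a ha] at hne; rwa [add_mul, one_mul]
    have h1 : Good H W (k + w) :=
      ⟨⟨d, hdW, by rw [herm_add_right, hdw, add_zero]; exact hdk⟩, hS.good_add hkG hw hkd⟩
    have hd' : ¬ Dep C W (-k) g := by
      rintro ⟨r', hr'⟩
      have e1 := hr' d hdW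
      rw [hr d hdW, hdw, mul_zero, herm_neg_r, eq_comm, mul_eq_zero] at e1
      have hr0 : r' = 0 := e1.resolve_right (neg_ne_zero.2 hdk)
      obtain ⟨c, hc, hcg⟩ := hgW
      exact hcg (by rw [hr' c hc, hr0, zero_mul])
    have h2 : Good H W (g + -k) :=
      ⟨⟨d, hdW, by rw [herm_add_right, hr d hdW, hdw, herm_neg_r]; simpa using hdk⟩,
        hS.good_add hgG (good_neg hkG) hd'⟩
    have hd'' : ¬ Dep C W (k + w) (g + -k) := by
      rintro ⟨r', hr'⟩
      have e1 := hr' d hdW
      rw [herm_add_right, herm_add_right, hr d hdW, hdw, herm_neg_r] at e1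
      have hr1 : r' = -1 := by
        have : (r' + 1) * herm C d k = 0 := by linear_combination -e1
        exact eq_neg_of_add_eq_zero_left ((mul_eq_zero.1 this).resolve_right hdk)
      have e2 := hr' a ha
      rw [herm_add_right, herm_add_right, hr a ha, herm_neg_r, hr1] at e2
      exact hne' (by linear_combination e2)
    have h := hS.good_add h2 h1 hd''
    rwa [show g + -k + (k + w) = g + w by abel] at h
  · exact hS.good_add hgG hw hd

include hS in
/-- Every isotropic vector is a centre. -/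
theorem centre_all {v : ι → F} (hv : herm C v v = 0) : Centre H v := by
  by_cases hW : ∀ a ∈ W, herm C a v = 0
  · exact hS.centre_W (hS.maxi v hv hW)
  push Not at hW
  have hshift : ∀ x, Shift H W x := by
    intro x
    have hx : x ∈ Submodule.span F {w | herm C w w = 0 ∧ Centre H w} := by
      rw [hS.span]; exact Submodule.mem_top
    induction hx using Submodule.span_induction with
    | mem x hx => exact hS.shift_centre hx.1 hx.2
    | zero => intro w hw _; rw [zero_add]; exact hw
    | add x y _ _ hx hy => exact hS.shift_add hx hy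
    | smul r x _ hx => exact hS.shift_smul hx r
  obtain ⟨g, hg, hgC, hgd⟩ := hS.exists_other v
  have hgG := hS.good_of_centre hg hgC (not_dep_ne hgd)
  have h := hshift (v - g) g hgG (by rwa [sub_add_cancel])
  rw [sub_add_cancel] at h
  have := h.2 0 W.zero_mem (by rwa [add_zero])
  rwa [add_zero] at this

include hS in
theorem eq_top (hι : ¬ (Fintype.card ι = 3 ∧ C.q = 2)) : H = ⊤ := by
  rw [eq_top_iff, ← transvs_eq_top C (ι := ι) hι, transvs, Subgroup.closure_le]
  rintro g ⟨v, c, hv, hc, hg⟩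
  obtain ⟨g', hg', hE⟩ := hS.centre_all hv c hc
  have e : g = g' := suG_ext C fun x => by
    rw [hg, hE, herm_zero_right, smul_zero, add_zero, sub_zero]
  exact e ▸ hg'

end Setup

end CfsgLib.SUThreeUnipotent
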