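import Cfsg.Agent.SUThreeUnipotent.RankOne

/-!
# Two conjugate regular unipotent elements generate `SU_3(q)`, `q ≥ 3`

With `u = E(e, x, b)` and a conjugate `v = E(f, r x, d)` some word in `u, v` fixes the line of `e` and acts on
the coefficient of `x` in the unipotent radical by a scalar which generates the field. For `q ∉ {5, 8}` the
word is `v u v`, with a multiplier of norm one.
-/

set_option autoImplicit false

namespace CfsgLib.SUThreeUnipotent

open Matrix CfsgLib.RepBounds.Unit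

variable {F : Type*} [Field F] [Fintype F] {C : ConjField F} {ι : Type*} [Fintype ι] [DecidableEq ι]

theorem IsE.shift {g : suG C ι} {a w : ι → F} {c κ : F} (h : IsE C g a (w + κ • a) c) :
    IsE C g a w (c + κ - C.σ κ) := by
  intro x
  rw [h, herm_add_right, herm_smul_right]
  module

theorem app_comp {g g' : suG C ι} {x y z : ι → F} (h : app C g x = y) (h' : app C g' y = z) :
    app C (g' * g) x = z := by rw [app_mul, h, h']

namespace Frame

variable (Φ : Frame C 0 ι)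

theorem conj_borel {g G : suG C ι} {s d lam μ η : F} (hg : IsE C g (Φ.e 0) (s • (-Φ.x0)) d)
    (hGe : app C G (Φ.e 0) = lam • Φ.e 0) (hGx : app C G (-Φ.x0) = μ • (-Φ.x0) + η • Φ.e 0) :
    IsE C (G * g * G⁻¹) (Φ.e 0) ((C.σ lam * μ * s) • (-Φ.x0))
      (d * (lam * C.σ lam) + C.σ lam * s * η - C.σ (C.σ lam * s * η)) := by
  have h := hg.conj G
  rw [hGe, app_smul, hGx, isE_smul] at h
  have e : C.σ lam • s • (μ • (-Φ.x0) + η • Φ.e 0) =
      (C.σ lam * μ * s) • (-Φ.x0) + (C.σ lam * s * η) • Φ.e 0 := by module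
  rw [e] at h
  exact h.shift

variable {b : F}

/-- The whole unipotent radical at `e`, from one element and a multiplier generating the field. -/
theorem unip_of_borel {H : Subgroup (suG C ι)} {u G : suG C ι} (hu : u ∈ H)
    (hue : IsE C u (Φ.e 0) ((1 : F) • (-Φ.x0)) b) (hb : b + C.σ b = -1) (hG : G ∈ H) {lam μ η : F}
    (hGe : app C G (Φ.e 0) = lam • Φ.e 0) (hGx : app C G (-Φ.x0) = μ • (-Φ.x0) + η • Φ.e 0)
    (hgen : ∀ A : Subring F, C.σ lam * μ ∈ A → ∀ w, w ∈ A) :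
    ∀ s d', d' + C.σ d' + s * C.σ s = 0 → MemE H (Φ.e 0) (s • (-Φ.x0)) d' := by
  have he := Φ.e_self (le_refl 0)
  have hμ : μ * C.σ μ = 1 := by
    have h : herm C (app C G (-Φ.x0)) (app C G (-Φ.x0)) = 1 := by rw [herm_app, Φ.xm_self]
    rw [hGx] at h
    simp only [herm_add_left, herm_add_right, herm_smul_left, herm_smul_right, Φ.xm_self, Φ.xm_e,
      herm_comm_zero C Φ.xm_e, he, mul_zero, add_zero, mul_one] at h
    linear_combination h
  let S : F → Prop := fun s =>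
    ∃ d', d' + C.σ d' + s * C.σ s = 0 ∧ MemE H (Φ.e 0) (s • (-Φ.x0)) d'
  have hSadd : ∀ {s t}, S s → S t → S (s + t) := by
    rintro s t ⟨d1, hd1, h1⟩ ⟨d2, hd2, h2⟩
    refine ⟨d1 + d2 - t * C.σ s, ?_, (h1.mul h2 he (Φ.smul_xm_e s) (Φ.smul_xm_e t)).congr rfl
      (add_smul s t _).symm (by rw [Φ.herm_smul_xm])⟩
    simp only [map_sub, map_add, map_mul, C.invol]
    linear_combination hd1 + hd2
  have hSneg : ∀ {s}, S s → S (-s) := by
    rintro s ⟨d1, hd1, h1⟩
    exact ⟨C.σ d1, by rw [C.invol, map_neg]; linear_combination hd1,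
      (h1.inv he (Φ.smul_xm_e s) (by rw [Φ.herm_smul_xm]; exact hd1)).congr rfl
        (neg_smul s _).symm rfl⟩
  have hS0 : S 0 := ⟨0, by simp, by rw [zero_smul]; exact memE_zero H _⟩
  let B : Subring F :=
    { carrier := {τ | ∀ s, S s → S (τ * s)}
      zero_mem' := fun s _ => by rw [zero_mul]; exact hS0
      one_mem' := fun s h => by rwa [one_mul]
      add_mem' := fun {x y} kx ky s h => by rw [add_mul]; exact hSadd (kx s h) (ky s h)
      neg_mem' := fun {x} kx s h => by rw [neg_mul]; exact hSneg (kx s h)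
      mul_mem' := fun {x y} kx ky s h => by rw [mul_assoc]; exact kx _ (ky s h) }
  have hω : C.σ lam * μ ∈ B := by
    rintro s ⟨d1, hd1, g, hg, hgE⟩
    refine ⟨_, ?_, _, mul_mem (mul_mem hG hg) (inv_mem hG), Φ.conj_borel hgE hGe hGx⟩
    simp only [map_sub, map_add, map_mul, C.invol]
    linear_combination (lam * C.σ lam) * hd1 + (lam * C.σ lam * s * C.σ s) * hμ
  have hS1 : S 1 := ⟨b, by rw [map_one, hb]; ring, u, hu, hue⟩
  have hSall : ∀ s, S s := fun s => mul_one s ▸ hgen B hω s 1 hS1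
  have hT : ∀ c ∈ C.skew, MemE H (Φ.e 0) 0 c := by
    intro c hc
    obtain ⟨t, ht⟩ := C.exists_trace_one
    set r := -(c * t) with hr
    have hrc : C.σ r - r = c := by
      rw [hr, map_neg, map_mul, C.skew_eq hc]
      linear_combination c * ht
    obtain ⟨d1, hd1, h1⟩ := hS1
    obtain ⟨d2, hd2, h2⟩ := hSall r
    have h12 := h1.mul h2 he (Φ.smul_xm_e _) (Φ.smul_xm_e _)
    have h21 := h2.mul h1 he (Φ.smul_xm_e _) (Φ.smul_xm_e _)
    rw [← add_smul, Φ.herm_smul_xm] at h12 h21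
    have hval : d2 + d1 - 1 * C.σ r + C.σ (d2 + d1 - 1 * C.σ r) + (r + 1) * C.σ (r + 1) = 0 := by
      simp only [map_sub, map_add, map_mul, map_one, C.invol]
      rw [map_one] at hd1
      linear_combination hd1 + hd2
    have h3 := h21.inv he (Φ.smul_xm_e _) (by rw [Φ.herm_smul_xm]; exact hval)
    refine (h12.mul h3 he (Φ.smul_xm_e _) (by rw [herm_neg_left, Φ.smul_xm_e, neg_zero])).congr rfl
      ?_ ?_
    · rw [add_comm r 1]; abel
    · rw [← neg_smul, Φ.herm_smul_xm]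
      simp only [map_sub, map_add, map_mul, map_one, C.invol]
      rw [map_one] at hd1
      linear_combination hd1 + hd2 + hrc
  intro s d' hd'
  obtain ⟨d0, hd0, h0⟩ := hSall s
  have hs : d' - d0 ∈ C.skew := by
    rw [C.mem_skew, map_sub]; linear_combination hd' - hd0
  exact (h0.mul (hT _ hs) he (Φ.smul_xm_e s) (herm_zero_left C _)).congr rfl (add_zero _)
    (by rw [herm_zero_left]; ring)

/-- A diagonal element for every `α ≠ 0`. -/
theorem exists_torus {α : F} (hα0 : α ≠ 0) : ∃ t : suG C ι,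
    app C t (Φ.e 0) = α • Φ.e 0 ∧ app C t (-Φ.x0) = (C.σ α / α) • (-Φ.x0) := by
  have hσα : C.σ α ≠ 0 := (map_ne_zero C.σ).2 hα0
  obtain ⟨k, hke, hkx, -⟩ := Φ.exists_monomial (d := (-1 : F)) (by simp)
  rw [map_neg, map_one] at hke hkx
  obtain ⟨n, hne, hnx, -⟩ := Φ.exists_monomial (d := -(C.σ α)⁻¹) (neg_ne_zero.2 (inv_ne_zero hσα))
  have hkif : app C k⁻¹ (Φ.f 0) = (-1 : F) • Φ.e 0 := by
    refine app_inv_eq C ?_
    rw [app_smul, hke, smul_smul]; norm_num
  have hkix : app C k⁻¹ (-Φ.x0) = (-1 : F) • (-Φ.x0) := by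
    refine app_inv_eq C ?_
    rw [app_smul, hkx, smul_smul]; norm_num
  refine ⟨k⁻¹ * n, ?_, ?_⟩
  · rw [app_mul, hne, app_smul, hkif, smul_smul, map_neg, map_inv₀, C.invol]
    congr 1; field_simp
  · rw [app_mul, hnx, app_smul, hkix, smul_smul, map_neg, map_inv₀, C.invol]
    congr 1; field_simp

/-- `E(f, r x, d)` is conjugate to `E(e, x, b)` when `r = σα²/α`. -/
theorem exists_conj_opp {u : suG C ι} {b r d α : F} (hue : IsE C u (Φ.e 0) ((1 : F) • (-Φ.x0)) b)
    (hb : b + C.σ b = -1) (hα : α ≠ 0) (hr : r = C.σ α * C.σ α / α) (hd : d + C.σ d + r * C.σ r = 0) :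
    ∃ g : suG C ι, IsE C (g * u * g⁻¹) (Φ.f 0) (r • (-Φ.x0)) d := by
  have hσα : C.σ α ≠ 0 := (map_ne_zero C.σ).2 hα
  have hσr : C.σ r ≠ 0 := (map_ne_zero C.σ).2 (hr ▸ div_ne_zero (mul_ne_zero hσα hσα) hα)
  obtain ⟨t, hte, htx⟩ := Φ.exists_torus hα
  obtain ⟨t₁, ht₁⟩ := C.exists_trace_one
  set D := d - b * (α * C.σ α) with hD
  have hrr : r * C.σ r = α * C.σ α := by
    rw [hr, map_div₀, map_mul, C.invol]; field_simp
  have hDs : C.σ D = -D := by
    rw [hD, map_sub, map_mul, map_mul, C.invol]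
    linear_combination hd - (α * C.σ α) * hb - hrr
  set τ := t₁ * D / C.σ r with hτ
  obtain ⟨h, hh⟩ := Φ.valid_e (s := τ) (d := -(τ * C.σ τ * t₁)) (by
    rw [map_neg, map_mul, map_mul, C.invol]
    linear_combination -(τ * C.σ τ) * ht₁)
  obtain ⟨k, hke, hkx, -⟩ := Φ.exists_monomial (d := (-1 : F)) (by simp)
  rw [map_neg, map_one] at hke hkx
  have hGe : app C (h * t) (Φ.e 0) = α • Φ.e 0 := by
    rw [app_mul, hte, app_smul, Φ.vec_e, Φ.app_e hh, Φ.smul_vec, Φ.smul_vec]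
    congr 1 <;> ring
  have hGx : app C (h * t) (-Φ.x0) =
      (C.σ α / α) • (-Φ.x0) + (-(C.σ α / α * C.σ τ)) • Φ.e 0 := by
    rw [app_mul, htx, app_smul, Φ.vec_x, Φ.vec_e, Φ.app_e hh, Φ.smul_vec, Φ.smul_vec, Φ.smul_vec,
      Φ.add_vec]
    congr 1 <;> ring
  have e1 := Φ.conj_borel hue hGe hGx
  have hr' : C.σ α * (C.σ α / α) * 1 = r := by rw [hr]; ring
  have e2 : b * (α * C.σ α) + C.σ α * 1 * (-(C.σ α / α * C.σ τ)) -
      C.σ (C.σ α * 1 * (-(C.σ α / α * C.σ τ))) = d := by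
    have e : C.σ α * 1 * (-(C.σ α / α * C.σ τ)) = -(r * C.σ τ) := by rw [hr]; ring
    rw [e, map_neg, map_mul, C.invol]
    have h1 : C.σ r * τ = t₁ * D := by rw [hτ, mul_div_cancel₀ _ hσr]
    have h2 : r * C.σ τ = -(C.σ t₁ * D) := by
      have := congrArg C.σ h1
      rw [map_mul, map_mul, C.invol, hDs] at this
      linear_combination this
    linear_combination h1 - h2 + D * ht₁ + hD
  rw [hr', e2] at e1
  refine ⟨k * (h * t), ?_⟩
  have h3 := e1.conj k
  rw [hke, app_smul, hkx, isE_smul] at h3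
  rw [show k * (h * t) * u * (k * (h * t))⁻¹ = k * (h * t * u * (h * t)⁻¹) * k⁻¹ by group]
  simpa using h3

end Frame

/-- The criterion for two generators. -/
theorem generate_two_of (C : ConjField F) (hq : 3 ≤ C.q) (Φ : Frame C 0 (Fin (2 * 0 + 3)))
    {b r d α : F} (hb : b + C.σ b = -1) (hα : α ≠ 0) (hr : r = C.σ α * C.σ α / α)
    (hd : d + C.σ d + r * C.σ r = 0) (hd0 : d ≠ 0)
    (hword : ∀ u v : suG C (Fin (2 * 0 + 3)), IsE C u (Φ.e 0) ((1 : F) • (-Φ.x0)) b →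
      IsE C v (Φ.f 0) (r • (-Φ.x0)) d → ∃ G ∈ Subgroup.closure {u, v}, ∃ lam μ η : F,
        app C G (Φ.e 0) = lam • Φ.e 0 ∧ app C G (-Φ.x0) = μ • (-Φ.x0) + η • Φ.e 0 ∧
        ∀ A : Subring F, C.σ lam * μ ∈ A → ∀ w, w ∈ A) :
    ∃ u g : suG C (Fin 3), (IsNilpotent (u.1.1 - 1) ∧ (u.1.1 - 1) ^ 2 ≠ 0) ∧
      Subgroup.closure ({u, g * u * g⁻¹} : Set (suG C (Fin 3))) = ⊤ := by
  classical
  have hue : IsE C (Φ.reg b) (Φ.e 0) ((1 : F) • (-Φ.x0)) b := Φ.isE_reg hb
  obtain ⟨g, hve⟩ := Φ.exists_conj_opp hue hb hα hr hd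
  refine ⟨Φ.reg b, g, ⟨Φ.isNilpotent_nil hb, Φ.nil_pow_ne_zero hb⟩, ?_⟩
  obtain ⟨G, hG, lam, μ, η, hGe, hGx, hgen⟩ := hword _ _ hue hve
  refine Φ.eq_top_of_unip (by rintro ⟨-, h⟩; omega)
    (Φ.unip_of_borel (Subgroup.subset_closure (Or.inl rfl)) hue hb hG hGe hGx hgen)
    (Subgroup.subset_closure (Or.inr rfl)) ?_
  rw [Φ.vec_e, Φ.app_f hve, ← Φ.vec_e, (Φ.herm_vec _ _ _).1]
  simpa using hd0

theorem two_le_of_not_mem {A : Subring F} {w : F} (hw : w ∉ A) :
    ∃ m, 2 ≤ m ∧ Nat.card (subfieldOf A) ^ m = Fintype.card F := by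
  classical
  haveI : Fintype (subfieldOf A) := Fintype.ofFinite _
  refine ⟨Module.finrank (subfieldOf A) F, ?_, ?_⟩
  · rcases Nat.lt_or_ge (Module.finrank (subfieldOf A) F) 2 with h | h
    · exfalso
      have hpos : 0 < Module.finrank (subfieldOf A) F := Module.finrank_pos
      have hcard := Module.card_eq_pow_finrank (K := subfieldOf A) (V := F)
      rw [show Module.finrank (subfieldOf A) F = 1 by omega, pow_one] at hcard
      have hb := (Fintype.bijective_iff_injective_and_card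
        (fun x : subfieldOf A => (x : F))).2 ⟨Subtype.val_injective, hcard.symm⟩
      obtain ⟨x, hx⟩ := hb.2 w
      exact hw (hx ▸ x.2)
    · exact h
  · rw [Nat.card_eq_fintype_card]
    exact (Module.card_eq_pow_finrank (K := subfieldOf A) (V := F)).symm

theorem subring_or (C : ConjField F) (A : Subring F) {z : F} (hz : z ∈ A) (hz0 : z ≠ 0) :
    (∀ w, w ∈ A) ∨
      ∃ k m, 2 ≤ k ∧ 2 ≤ m ∧ k ^ m = C.q ^ 2 ∧ z ^ (k - 1) = 1 := by
  by_cases hall : ∀ w, w ∈ A
  · exact Or.inl hall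
  push Not at hall
  obtain ⟨w, hw⟩ := hall
  obtain ⟨m, hm, hk⟩ := two_le_of_not_mem hw
  haveI : Fintype (subfieldOf A) := Fintype.ofFinite _
  have h2 : 2 ≤ Nat.card (subfieldOf A) := by
    rw [Nat.card_eq_fintype_card]; exact Fintype.one_lt_card
  refine Or.inr ⟨_, m, h2, hm, hk.trans C.card, mul_right_cancel₀ hz0 ?_⟩
  rw [one_mul, ← pow_succ, Nat.sub_add_cancel (by omega)]
  exact pow_natCard_eq (B := subfieldOf A) hz

theorem two_exceptions {q k m : ℕ} (hq : 3 ≤ q) (hk : 2 ≤ k) (hm : 2 ≤ m) (h : k ^ m = q ^ 2)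
    (hdvd : q + 1 ∣ 3 * (k - 1)) : q = 5 ∨ q = 8 := by
  obtain ⟨j, hj⟩ := hdvd
  have hk1 : k ^ 2 ≤ q ^ 2 := h ▸ Nat.pow_le_pow_right (by omega) hm
  have hkq : k ≤ q := (Nat.pow_le_pow_iff_left (by omega)).1 hk1
  rcases Nat.lt_or_ge j 3 with hj3 | hj3
  swap
  · have := Nat.mul_le_mul_left (q + 1) hj3
    omega
  rcases Nat.lt_or_ge m 3 with hm3 | hm3
  · obtain rfl : m = 2 := by omega
    obtain rfl : k = q := Nat.pow_left_injective (by omega) h
    interval_cases j <;> omega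
  have hk3 : k ^ 3 ≤ q ^ 2 := h ▸ Nat.pow_le_pow_right (by omega) hm3
  have hq3 : q ≤ 3 * k := by interval_cases j <;> omega
  have hk9 : k ≤ 9 := by
    by_contra hcon
    have h9 : q ^ 2 ≤ (3 * k) ^ 2 := Nat.pow_le_pow_left hq3 2
    nlinarith [Nat.mul_le_mul_right (k ^ 2) (show 10 ≤ k by omega)]
  have hq27 : q ≤ 27 := by omega
  have hm9 : m < 10 := by
    by_contra hcon
    have h2 : 2 ^ 10 ≤ k ^ m :=
      (Nat.pow_le_pow_left hk 10).trans (Nat.pow_le_pow_right (by omega) (by omega))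
    have h3 : q ^ 2 ≤ 27 ^ 2 := Nat.pow_le_pow_left hq27 2
    omega
  interval_cases j <;> interval_cases k <;> first | omega | (interval_cases q <;> omega) |
    (interval_cases q <;> interval_cases m <;> simp_all)

/-- `q ∉ {5, 8}`: the word `v u v`. -/
theorem generate_two_generic (C : ConjField F) (hq : 3 ≤ C.q) (h5 : C.q ≠ 5) (h8 : C.q ≠ 8) :
    ∃ u g : suG C (Fin 3), (IsNilpotent (u.1.1 - 1) ∧ (u.1.1 - 1) ^ 2 ≠ 0) ∧
      Subgroup.closure ({u, g * u * g⁻¹} : Set (suG C (Fin 3))) = ⊤ := by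
  obtain ⟨Φ⟩ := exists_frame C 0
  obtain ⟨γ, hγgen, -⟩ := exists_gen C
  have hγ : (γ : F) ≠ 0 := γ.ne_zero
  have hord : orderOf γ = C.q ^ 2 - 1 := by
    rw [orderOf_eq_card_of_forall_mem_zpowers
      (fun z => by
        obtain ⟨j, hj⟩ := hγgen (z : F) z.ne_zero
        exact ⟨j, Units.ext (by simpa using hj.symm)⟩), Nat.card_units, Nat.card_eq_fintype_card,
      C.card]
  set l := (γ : F) ^ (C.q - 1) with hl
  have hl0 : l ≠ 0 := pow_ne_zero _ hγ
  have hord' : ∀ j, l ^ j = 1 → C.q + 1 ∣ j := by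
    intro j hj
    rw [hl, ← pow_mul, ← Units.val_pow_eq_pow_val, Units.val_eq_one] at hj
    have h := orderOf_dvd_of_pow_eq_one hj
    rw [hord, show C.q ^ 2 - 1 = (C.q - 1) * (C.q + 1) by
      rw [show C.q ^ 2 - 1 = C.q ^ 2 - 1 ^ 2 by norm_num, Nat.sq_sub_sq, mul_comm]] at h
    exact Nat.dvd_of_mul_dvd_mul_left (by omega) h
  have hσl : C.σ l = l⁻¹ := by
    refine eq_inv_of_mul_eq_one_left ?_
    rw [C.pow, hl, ← pow_succ, ← pow_mul, ← Units.val_pow_eq_pow_val, Units.val_eq_one,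
      ← orderOf_dvd_iff_pow_eq_one, hord]
    refine dvd_of_eq ?_
    rw [show C.q ^ 2 - 1 = C.q ^ 2 - 1 ^ 2 by norm_num, Nat.sq_sub_sq, mul_comm]
  have hl1 : l + 1 ≠ 0 := by
    intro h
    have e : l ^ 2 = 1 := by linear_combination (l - 1) * h
    have := Nat.le_of_dvd (by omega) (hord' 2 e)
    omega
  have hl1' : 1 + l ≠ 0 := by rwa [add_comm]
  set r := (1 + l) ^ 2 / l with hr
  set d := -((1 + l) ^ 3 / l) with hd
  set b := -((2 * l ^ 2 + l + 1) / (1 + l) ^ 3) with hb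
  have hσr : C.σ r = r := by
    rw [hr, map_div₀, map_pow, map_add, map_one, hσl]; field_simp; ring
  have hr0 : r ≠ 0 := div_ne_zero (pow_ne_zero _ hl1') hl0
  refine generate_two_of C hq Φ (b := b) (r := r) (d := d) (α := r) ?_ hr0 ?_ ?_ ?_ ?_
  · rw [hb, map_neg, map_div₀]
    simp only [map_add, map_mul, map_pow, map_one, map_ofNat, hσl]
    field_simp
    ring
  · rw [hσr]; field_simp
  · rw [hσr, hd, hr, map_neg, map_div₀, map_pow, map_add, map_one, hσl]
    field_simp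
    ring
  · exact neg_ne_zero.2 (div_ne_zero (pow_ne_zero _ hl1') hl0)
  intro u v hue hve
  refine ⟨v * u * v, mul_mem (mul_mem (Subgroup.subset_closure (Or.inr rfl))
    (Subgroup.subset_closure (Or.inl rfl))) (Subgroup.subset_closure (Or.inr rfl)), l, (l ^ 2)⁻¹,
    -(b * r) - 1, ?_, ?_, fun A hA => ?_⟩
  · simp only [app_mul, Φ.vec_e, Φ.app_f hve, Φ.app_e hue, map_one, hσr, Φ.smul_vec]
    congr 1 <;> simp only [hb, hr, hd] <;> field_simp <;> ring
  · simp only [app_mul, Φ.vec_e, Φ.vec_x, Φ.app_f hve, Φ.app_e hue, map_one, hσr, Φ.smul_vec,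
      Φ.add_vec]
    congr 1 <;> simp only [hb, hr, hd] <;> field_simp <;> ring
  · have h3 : l ^ 3 ∈ A := by
      have e : (C.σ l * (l ^ 2)⁻¹)⁻¹ = l ^ 3 := by rw [hσl]; field_simp
      exact e ▸ inv_mem_subring A hA
    rcases subring_or C A h3 (pow_ne_zero _ hl0) with h | ⟨k, m, hk, hm, hkm, hz⟩
    · exact h
    rw [← pow_mul] at hz
    rcases two_exceptions hq hk hm hkm (hord' _ hz) with h | h
    · exact absurd h h5
    · exact absurd h h8

/-- `q = 5`: the word `v³ u³ v`. -/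
theorem generate_two_five (C : ConjField F) (hq : C.q = 5) :
    ∃ u g : suG C (Fin 3), (IsNilpotent (u.1.1 - 1) ∧ (u.1.1 - 1) ^ 2 ≠ 0) ∧
      Subgroup.closure ({u, g * u * g⁻¹} : Set (suG C (Fin 3))) = ⊤ := by
  obtain ⟨Φ⟩ := exists_frame C 0
  have h5 : (5 : F) = 0 := by
    have h := FiniteField.cast_card_eq_zero F
    rw [C.card, hq] at h
    push_cast at h
    exact pow_eq_zero_iff (two_ne_zero) |>.1 (by linear_combination h : (5 : F) ^ 2 = 0)
  have h2 : (2 : F) ≠ 0 := fun h => one_ne_zero (α := F) (by linear_combination h5 - 2 * h)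
  have hfix : ∀ z : F, C.σ z = z → z = 0 ∨ z = 1 ∨ z = 2 ∨ z = 3 ∨ z = 4 := by
    intro z hz
    rw [C.pow, hq] at hz
    have e : z * (z - 1) * (z - 2) * (z - 3) * (z - 4) = 0 := by
      linear_combination hz + (-2 * z ^ 4 + 7 * z ^ 3 - 10 * z ^ 2 + 5 * z) * h5
    simpa [sub_eq_zero, or_assoc] using e
  obtain ⟨w, hw, hσw⟩ : ∃ w : F, w ^ 2 = 3 ∧ C.σ w = -w := by
    obtain ⟨a, ha, ha0⟩ := C.exists_skew_ne
    have hσa : C.σ a = -a := C.skew_eq ha
    have hone : ∀ t : F, C.σ t = t → (a - t) * (a + t) = 0 → False := by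
      intro t ht he
      have h : C.σ a = a := by
        rcases mul_eq_zero.1 he with h | h
        · rw [sub_eq_zero.1 h, ht]
        · rw [eq_neg_of_add_eq_zero_left h, map_neg, ht]
      refine ha0 ((mul_eq_zero.1 (show (2 : F) * a = 0 by linear_combination hσa - h)).resolve_left h2)
    rcases hfix (a ^ 2) (by rw [map_pow, hσa, neg_sq]) with h | h | h | h | h
    · exact absurd (pow_eq_zero_iff two_ne_zero |>.1 h) ha0
    · exact (hone 1 (map_one _) (by linear_combination h)).elim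
    · exact ⟨2 * a, by linear_combination 4 * h + h5, by rw [map_mul, map_ofNat, hσa]; ring⟩
    · exact ⟨a, h, hσa⟩
    · exact (hone 2 (map_ofNat _ _) (by linear_combination h)).elim
  have hw0 : w ≠ 0 := by
    rintro rfl
    exact one_ne_zero (α := F) (by linear_combination -2 * hw - h5 + (0:F) * h5)
  refine generate_two_of C (by omega) Φ (b := 2 + w) (r := w) (d := 4 + w) (α := w) ?_ hw0 ?_ ?_ ?_ ?_
  · rw [map_add, map_ofNat, hσw]; linear_combination h5
  · rw [hσw]; field_simp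
  · rw [map_add, map_ofNat, hσw]; grind
  · intro h
    grind
  intro u v hue hve
  have hu := Subgroup.subset_closure (k := ({u, v} : Set (suG C (Fin (2 * 0 + 3))))) (Or.inl rfl)
  have hv := Subgroup.subset_closure (k := ({u, v} : Set (suG C (Fin (2 * 0 + 3))))) (Or.inr rfl)
  have stepU : ∀ {a y z a' y' : F}, a + (2 + w) * z - y = a' → y + z = y' →
      app C u (Φ.vec a y z) = Φ.vec a' y' z := by
    intro a y z a' y' h1 h2
    rw [Φ.app_e hue, map_one, ← h1, ← h2]; congr 1 <;> ring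
  have stepV : ∀ {a y z y' z' : F}, y + w * a = y' → z + (4 + w) * a + w * y = z' →
      app C v (Φ.vec a y z) = Φ.vec a y' z' := by
    intro a y z y' z' h1 h2
    rw [Φ.app_f hve, hσw, ← h1, ← h2]; congr 1; ring
  refine ⟨v * (v * (v * (u * (u * (u * v))))), mul_mem hv (mul_mem hv (mul_mem hv (mul_mem hu
    (mul_mem hu (mul_mem hu hv))))), 2 + 2 * w, 3 + w, 1 + 3 * w, ?_, ?_, fun A hA z => ?_⟩
  · rw [Φ.vec_e]
    refine (app_comp (y := Φ.vec (2 + 2 * w) (4 + 3 * w) (2 + w)) ?_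
      (stepV (y' := 0) (z' := 0) (by grind) (by grind))).trans (by rw [Φ.smul_vec]; congr 1 <;> ring)
    refine app_comp (y := Φ.vec (2 + 2 * w) (3 + w) (3 * w)) ?_ (stepV (by grind) (by grind))
    refine app_comp (y := Φ.vec (2 + 2 * w) (2 + 4 * w) (4 + w)) ?_ (stepV (by grind) (by grind))
    refine app_comp (y := Φ.vec (4 + 4 * w) (3 + 3 * w) (4 + w)) ?_ (stepU (by grind) (by grind))
    refine app_comp (y := Φ.vec 2 (4 + 2 * w) (4 + w)) ?_ (stepU (by grind) (by grind))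
    refine app_comp (y := Φ.vec 1 w (4 + w)) ?_ (stepU (by grind) (by grind))
    exact stepV (by grind) (by grind)
  · rw [Φ.vec_x, Φ.vec_e]
    refine (app_comp (y := Φ.vec (1 + 3 * w) 4 (2 + 3 * w)) ?_
      (stepV (y' := 3 + w) (z' := 0) (by grind) (by grind))).trans
        (by rw [Φ.smul_vec, Φ.smul_vec, Φ.add_vec]; congr 1 <;> ring)
    refine app_comp (y := Φ.vec (1 + 3 * w) (4 * w) 2) ?_ (stepV (by grind) (by grind))
    refine app_comp (y := Φ.vec (1 + 3 * w) (1 + 3 * w) w) ?_ (stepV (by grind) (by grind))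
    refine app_comp (y := Φ.vec (4 + 3 * w) (1 + 2 * w) w) ?_ (stepU (by grind) (by grind))
    refine app_comp (y := Φ.vec (2 + 2 * w) (1 + w) w) ?_ (stepU (by grind) (by grind))
    refine app_comp (y := Φ.vec 0 1 w) ?_ (stepU (by grind) (by grind))
    exact stepV (by grind) (by grind)
  · have hwA : w ∈ A := by
      have e : C.σ (2 + 2 * w) * (3 + w) = w := by
        rw [map_add, map_mul, map_ofNat, hσw]; grind
      exact e ▸ hA
    have hnat : ∀ x : F, C.σ x = x → x ∈ A := by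
      intro x hx
      rcases hfix x hx with rfl | rfl | rfl | rfl | rfl
      exacts [A.zero_mem, A.one_mem, ofNat_mem A 2, ofNat_mem A 3, ofNat_mem A 4]
    have e : z = (z + C.σ z) / 2 + (z - C.σ z) / (2 * w) * w := by field_simp; ring
    rw [e]
    refine A.add_mem (hnat _ ?_) (A.mul_mem (hnat _ ?_) hwA)
    · rw [map_div₀, map_add, map_ofNat, C.invol, add_comm]
    · rw [map_div₀, map_sub, map_mul, map_ofNat, C.invol, hσw, mul_neg, div_neg, ← neg_div, neg_sub]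

/-- `q = 8`: the word `v u³ v u² v`. -/
theorem generate_two_eight (C : ConjField F) (hq : C.q = 8) :
    ∃ u g : suG C (Fin 3), (IsNilpotent (u.1.1 - 1) ∧ (u.1.1 - 1) ^ 2 ≠ 0) ∧
      Subgroup.closure ({u, g * u * g⁻¹} : Set (suG C (Fin 3))) = ⊤ := by
  obtain ⟨Φ⟩ := exists_frame C 0
  have h2 : (2 : F) = 0 := by
    have h := FiniteField.cast_card_eq_zero F
    rw [C.card, hq] at h
    push_cast at h
    exact pow_eq_zero_iff (n := 6) (by omega) |>.1 (by linear_combination h)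
  obtain ⟨γ, hγgen, -⟩ := exists_gen C
  have hord : orderOf γ = 63 := by
    rw [orderOf_eq_card_of_forall_mem_zpowers
      (fun z => by
        obtain ⟨j, hj⟩ := hγgen (z : F) z.ne_zero
        exact ⟨j, Units.ext (by simpa using hj.symm)⟩), Nat.card_units, Nat.card_eq_fintype_card,
      C.card, hq]
    norm_num
  obtain ⟨z, hz9, hz0⟩ : ∃ z : F, (∀ j, z ^ j = 1 ↔ 9 ∣ j) ∧ z ≠ 0 := by
    refine ⟨(γ : F) ^ 7, fun j => ?_, pow_ne_zero _ γ.ne_zero⟩
    rw [← pow_mul, ← Units.val_pow_eq_pow_val, Units.val_eq_one, ← orderOf_dvd_iff_pow_eq_one, hord]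
    omega
  have hz : z ^ 6 + z ^ 3 + 1 = 0 := by
    have h1 : z ^ 9 = 1 := (hz9 9).2 dvd_rfl
    have h3 : z ^ 3 - 1 ≠ 0 := sub_ne_zero.2 fun h => by
      have := (hz9 3).1 h; omega
    exact (mul_eq_zero.1 (show (z ^ 3 - 1) * (z ^ 6 + z ^ 3 + 1) = 0 by
      linear_combination h1)).resolve_left h3
  have hσz : C.σ z = z ^ 5 + z ^ 2 := by
    rw [C.pow, hq]; grind
  have hσb : C.σ (z ^ 3 + z ^ 4 + z ^ 5) = 1 + z ^ 3 + z ^ 4 + z ^ 5 := by
    simp only [map_add, map_pow, hσz]; grind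
  have hσr : C.σ (z ^ 2 + z ^ 4) = z + z ^ 4 + z ^ 5 := by
    simp only [map_add, map_pow, hσz]; grind
  have hα : z + z ^ 3 ≠ 0 := by
    intro h
    have h' : z ^ 2 + 1 = 0 := (mul_eq_zero.1 (show z * (z ^ 2 + 1) = 0 by
      linear_combination h)).resolve_left hz0
    have := (hz9 4).1 (by linear_combination (z ^ 2 - 1) * h')
    omega
  refine generate_two_of C (by omega) Φ (b := z ^ 3 + z ^ 4 + z ^ 5) (r := z ^ 2 + z ^ 4) (d := z ^ 2)
    (α := z + z ^ 3) ?_ hα ?_ ?_ (pow_ne_zero _ hz0) ?_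
  · rw [hσb]; grind
  · rw [eq_div_iff hα]
    simp only [map_add, map_pow, hσz]
    grind
  · rw [hσr, map_pow, hσz]; grind
  intro u v hue hve
  have hu := Subgroup.subset_closure (k := ({u, v} : Set (suG C (Fin (2 * 0 + 3))))) (Or.inl rfl)
  have hv := Subgroup.subset_closure (k := ({u, v} : Set (suG C (Fin (2 * 0 + 3))))) (Or.inr rfl)
  have stepU : ∀ {a y t a' y' : F}, a + (z ^ 3 + z ^ 4 + z ^ 5) * t - y = a' → y + t = y' →
      app C u (Φ.vec a y t) = Φ.vec a' y' t := by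
    intro a y t a' y' h1 h2
    rw [Φ.app_e hue, map_one, ← h1, ← h2]; congr 1 <;> ring
  have stepV : ∀ {a y t y' t' : F}, y + (z ^ 2 + z ^ 4) * a = y' →
      t + z ^ 2 * a - (z + z ^ 4 + z ^ 5) * y = t' → app C v (Φ.vec a y t) = Φ.vec a y' t' := by
    intro a y t y' t' h1 h2
    rw [Φ.app_f hve, hσr, ← h1, ← h2]
  refine ⟨v * (u * (u * (u * (v * (u * (u * v)))))), mul_mem hv (mul_mem hu (mul_mem hu (mul_mem hu
    (mul_mem hv (mul_mem hu (mul_mem hu hv)))))), z ^ 3 + z ^ 4, z ^ 2, 0, ?_, ?_, fun A hA => ?_⟩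
  · rw [Φ.vec_e]
    refine (app_comp (y := Φ.vec (z ^ 3 + z ^ 4) (1 + z + z ^ 2 + z ^ 3 + z ^ 4) (z + z ^ 2)) ?_
      (stepV (y' := 0) (t' := 0) (by grind) (by grind))).trans (by rw [Φ.smul_vec]; congr 1 <;> ring)
    refine app_comp (y := Φ.vec (1 + z) (1 + z ^ 3 + z ^ 4) (z + z ^ 2)) ?_
      (stepU (by grind) (by grind))
    refine app_comp (y := Φ.vec (z + z ^ 2 + z ^ 3 + z ^ 4) (1 + z + z ^ 2 + z ^ 3 + z ^ 4) (z + z ^ 2))
      ?_ (stepU (by grind) (by grind))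
    refine app_comp (y := Φ.vec (1 + z ^ 2) (1 + z ^ 3 + z ^ 4) (z + z ^ 2)) ?_
      (stepU (by grind) (by grind))
    refine app_comp (y := Φ.vec (1 + z ^ 2) (z ^ 2 + z ^ 4) (z ^ 2)) ?_ (stepV (by grind) (by grind))
    refine app_comp (y := Φ.vec (z + z ^ 2 + z ^ 3 + z ^ 5) (z ^ 4) (z ^ 2)) ?_
      (stepU (by grind) (by grind))
    refine app_comp (y := Φ.vec 1 (z ^ 2 + z ^ 4) (z ^ 2)) ?_ (stepU (by grind) (by grind))
    exact stepV (by grind) (by grind)
  · rw [Φ.vec_x, zero_smul, add_zero]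
    refine (app_comp (y := Φ.vec 0 (z ^ 2) (1 + z + z ^ 4)) ?_
      (stepV (y' := z ^ 2) (t' := 0) (by grind) (by grind))).trans
        (by rw [Φ.smul_vec]; congr 1 <;> ring)
    refine app_comp (y := Φ.vec (1 + z ^ 5) (1 + z + z ^ 2 + z ^ 4) (1 + z + z ^ 4)) ?_
      (stepU (by grind) (by grind))
    refine app_comp (y := Φ.vec (1 + z + z ^ 4) (z ^ 2) (1 + z + z ^ 4)) ?_
      (stepU (by grind) (by grind))
    refine app_comp (y := Φ.vec (z + z ^ 4 + z ^ 5) (1 + z + z ^ 2 + z ^ 4) (1 + z + z ^ 4)) ?_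
      (stepU (by grind) (by grind))
    refine app_comp (y := Φ.vec (z + z ^ 4 + z ^ 5) 1 (z + z ^ 4 + z ^ 5)) ?_
      (stepV (by grind) (by grind))
    refine app_comp (y := Φ.vec (z ^ 3 + z ^ 5) (1 + z + z ^ 4 + z ^ 5) (z + z ^ 4 + z ^ 5)) ?_
      (stepU (by grind) (by grind))
    refine app_comp (y := Φ.vec 0 1 (z + z ^ 4 + z ^ 5)) ?_ (stepU (by grind) (by grind))
    exact stepV (by grind) (by grind)
  · have e : C.σ (z ^ 3 + z ^ 4) * z ^ 2 = z + z ^ 2 + z ^ 4 + z ^ 5 := by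
      simp only [map_add, map_pow, hσz]; grind
    rw [e] at hA
    have hzA : z ∈ A := by
      have e' : z = 1 + (z + z ^ 2 + z ^ 4 + z ^ 5) ^ 2 + (z + z ^ 2 + z ^ 4 + z ^ 5) ^ 3 := by grind
      rw [e']
      exact A.add_mem (A.add_mem A.one_mem (A.pow_mem hA 2)) (A.pow_mem hA 3)
    rcases subring_or C A hzA hz0 with h | ⟨k, m, hk, hm, hkm, hk1⟩
    · exact h
    obtain ⟨j, hj⟩ := (hz9 _).1 hk1
    rw [hq] at hkm
    have h8 : k ≤ 8 := by
      by_contra hc
      have : 9 ^ 2 ≤ k ^ m :=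
        (Nat.pow_le_pow_left (by omega) 2).trans (Nat.pow_le_pow_right (by omega) hm)
      omega
    omega

/-- Two conjugates of a regular unipotent element generate `SU_3(q)`, `q ≥ 3`. -/
theorem generate_two_dim_three (C : ConjField F) (hq : 3 ≤ C.q) :
    ∃ u g : suG C (Fin 3), (IsNilpotent (u.1.1 - 1) ∧ (u.1.1 - 1) ^ 2 ≠ 0) ∧
      Subgroup.closure ({u, g * u * g⁻¹} : Set (suG C (Fin 3))) = ⊤ := by
  by_cases h5 : C.q = 5
  · exact generate_two_five C h5
  by_cases h8 : C.q = 8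
  · exact generate_two_eight C h8
  exact generate_two_generic C hq h5 h8

end CfsgLib.SUThreeUnipotent
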