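import Cfsg.Agent.SUThreeUnipotent.Engine

/-!
# Scalars for `SU_3`: parameters whose multiplier generates the fixed field
-/

set_option autoImplicit false

namespace CfsgLib.SUThreeUnipotent

open CfsgLib.RepBounds.Unit

variable {F : Type*} [Field F] [Fintype F] {C : ConjField F}

theorem inv_mem_subring (A : Subring F) {z : F} (hz : z ∈ A) : z⁻¹ ∈ A := by
  by_cases h : z = 0
  · rw [h, inv_zero]; exact A.zero_mem
  have h2 : 2 ≤ Fintype.card F := Fintype.one_lt_card
  have e : z ^ (Fintype.card F - 2) * z = 1 := by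
    rw [← pow_succ, show Fintype.card F - 2 + 1 = Fintype.card F - 1 by omega,
      FiniteField.pow_card_sub_one_eq_one z h]
  rw [← eq_inv_of_mul_eq_one_left e]
  exact A.pow_mem hz _

/-- The subfield on the elements of a subring. -/
def subfieldOf (A : Subring F) : Subfield F :=
  { A with inv_mem' := fun _ hz => inv_mem_subring A hz }

theorem mem_subfieldOf {A : Subring F} {z : F} : z ∈ subfieldOf A ↔ z ∈ A := Iff.rfl

theorem pow_natCard_eq {B : Subfield F} {z : F} (hz : z ∈ B) : z ^ Nat.card B = z := by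
  haveI : Fintype B := Fintype.ofFinite _
  rw [Nat.card_eq_fintype_card]
  exact congrArg Subtype.val (FiniteField.pow_card (⟨z, hz⟩ : B))

/-- The fixed field as a subfield. -/
def fixField (C : ConjField F) : Subfield F where
  carrier := {z | C.σ z = z}
  mul_mem' {a b} ha hb := fixed_mul ha hb
  one_mem' := map_one C.σ
  add_mem' {a b} ha hb := by show C.σ (a + b) = a + b; rw [map_add, ha, hb]
  zero_mem' := map_zero C.σ
  neg_mem' {a} ha := by show C.σ (-a) = -a; rw [map_neg, ha]
  inv_mem' a ha := by show C.σ a⁻¹ = a⁻¹; rw [map_inv₀, ha]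

theorem card_fixField (C : ConjField F) : Nat.card (fixField C) = C.q := by
  obtain ⟨a, ha, ha0⟩ := C.exists_skew_ne
  rw [← C.card_skew]
  refine Nat.card_congr
    { toFun := fun z => ⟨(z : F) * a, by
        rw [C.mem_skew, map_mul, show C.σ (z : F) = z from z.2, C.skew_eq ha]; ring⟩
      invFun := fun z => ⟨(z : F) / a, by
        show C.σ ((z : F) / a) = (z : F) / a
        rw [map_div₀, C.skew_eq ha, C.skew_eq z.2, neg_div_neg_eq]⟩
      left_inv := fun z => Subtype.ext (by simp [mul_div_cancel_right₀ _ ha0])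
      right_inv := fun z => Subtype.ext (by simp [div_mul_cancel₀ _ ha0]) }

theorem primitive_le {r : ℕ} {z : F} (h : ∀ w : F, C.σ w = w → w ≠ 0 → ∃ k : ℕ, w = z ^ k)
    (hr : 0 < r) (hz : z ^ r = 1) : C.q ≤ r + 1 := by
  classical
  have hsub : ∀ w : fixField C, (w : F) ∈ insert 0 ((Finset.range r).image fun k => z ^ k) := by
    intro w
    by_cases hw : (w : F) = 0
    · rw [hw]; exact Finset.mem_insert_self _ _
    obtain ⟨k, hk⟩ := h w w.2 hw
    refine Finset.mem_insert_of_mem (Finset.mem_image.2 ⟨k % r, Finset.mem_range.2 (Nat.mod_lt _ hr), ?_⟩)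
    rw [hk]
    conv_rhs => rw [← Nat.mod_add_div k r, pow_add, pow_mul, hz, one_pow, mul_one]
  rw [← card_fixField C]
  calc Nat.card (fixField C)
      ≤ Nat.card (insert 0 ((Finset.range r).image fun k => z ^ k) : Finset F) :=
        Nat.card_le_card_of_injective (fun w => ⟨(w : F), hsub w⟩)
          (fun a b hab => Subtype.ext (by simpa using congrArg Subtype.val hab))
    _ ≤ r + 1 := by
        rw [Nat.card_eq_fintype_card, Fintype.card_coe]
        exact (Finset.card_insert_le _ _).trans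
          (Nat.add_le_add_right (Finset.card_image_le.trans (Finset.card_range r).le) 1)

/-- If `z` is primitive in the fixed field and quadratic over the subring `A`, then `A` is everything fixed
or `A` has index two. -/
theorem quadratic_dichotomy {A : Subring F} (hA : ∀ w ∈ A, C.σ w = w) {z s m : F}
    (hzf : C.σ z = z) (hs : s ∈ A) (hm : m ∈ A) (hz : z * z = s * z - m)
    (hprim : ∀ w : F, C.σ w = w → w ≠ 0 → ∃ k : ℕ, w = z ^ k) :
    (∀ w, C.σ w = w → w ∈ A) ∨ (z ∉ A ∧ Nat.card (subfieldOf A) ^ 2 = C.q) := by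
  classical
  have hrep : ∀ w, C.σ w = w → ∃ a ∈ A, ∃ b ∈ A, w = a + b * z := by
    intro w hw
    by_cases hw0 : w = 0
    · exact ⟨0, A.zero_mem, 0, A.zero_mem, by rw [hw0]; ring⟩
    obtain ⟨k, rfl⟩ := hprim w hw hw0
    clear hw hw0
    induction k with
    | zero => exact ⟨1, A.one_mem, 0, A.zero_mem, by ring⟩
    | succ k ih =>
      obtain ⟨a, ha, b, hb, e⟩ := ih
      exact ⟨-(b * m), A.neg_mem (A.mul_mem hb hm), a + b * s, A.add_mem ha (A.mul_mem hb hs), by
        rw [pow_succ, e]; linear_combination b * hz⟩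
  by_cases hzA : z ∈ A
  · refine Or.inl fun w hw => ?_
    obtain ⟨a, ha, b, hb, rfl⟩ := hrep w hw
    exact A.add_mem ha (A.mul_mem hb hzA)
  refine Or.inr ⟨hzA, ?_⟩
  rw [← card_fixField C, pow_two, ← Nat.card_prod]
  refine Nat.card_eq_of_bijective
    (fun p : subfieldOf A × subfieldOf A => (⟨(p.1 : F) + (p.2 : F) * z, by
      show C.σ _ = _
      rw [map_add, map_mul, hA _ p.1.2, hA _ p.2.2, hzf]⟩ : fixField C)) ⟨?_, ?_⟩
  · rintro ⟨a, b⟩ ⟨a', b'⟩ hab
    have h : (a : F) + (b : F) * z = (a' : F) + (b' : F) * z :=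
      congrArg (fun x : fixField C => (x : F)) hab
    by_cases hbb : (b : F) = b'
    · refine Prod.ext (Subtype.ext ?_) (Subtype.ext hbb)
      rw [hbb] at h; exact add_right_cancel h
    · refine absurd ?_ hzA
      have hne : (b : F) - b' ≠ 0 := sub_ne_zero.2 hbb
      have e : z = ((a' : F) - a) * ((b : F) - b')⁻¹ := by
        field_simp
        linear_combination h
      rw [e]
      exact A.mul_mem (A.sub_mem a'.2 a.2) (inv_mem_subring A (A.sub_mem b.2 b'.2))
  · rintro ⟨w, hw⟩
    obtain ⟨a, ha, b, hb, e⟩ := hrep w hw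
    exact ⟨(⟨a, ha⟩, ⟨b, hb⟩), Subtype.ext e.symm⟩

/-- Odd characteristic: a skew `δ` such that `(δ² - a)²` generates the fixed field. -/
theorem exists_delta (C : ConjField F) (h2 : (2 : F) ≠ 0) (a : ℤ) :
    ∃ δ : F, C.σ δ = -δ ∧ δ ≠ 0 ∧
      ∀ A : Subring F, (δ * δ - (a : F)) * (δ * δ - (a : F)) ∈ A → ∀ w, C.σ w = w → w ∈ A := by
  classical
  obtain ⟨γ, hgen, hfix⟩ := exists_gen C
  have hq2 := C.two_le
  have hodd : Odd C.q := by
    by_contra h
    rw [Nat.not_odd_iff_even] at h
    refine h2 ?_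
    obtain ⟨d, hd⟩ := h
    have h0 := FiniteField.cast_card_eq_zero F
    rw [C.card, hd, Nat.cast_pow, Nat.cast_add, ← two_mul] at h0
    rcases mul_eq_zero.1 (eq_zero_of_pow_eq_zero h0) with h' | h'
    · exact h'
    · exfalso
      have h1 : (d : F) * 2 = C.q := by rw [hd]; push_cast; ring
      rw [h', zero_mul] at h1
      have hσ : ∀ x : F, C.σ x = x ^ C.q := C.pow
      have hp : ringChar F ∣ C.q := ringChar.dvd h1.symm
      have hpd : ringChar F ∣ d := ringChar.dvd h'
      obtain ⟨n, hn, hnc⟩ := FiniteField.card F (ringChar F)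
      obtain ⟨j, -, hj⟩ := (Nat.dvd_prime_pow hn).1 (show C.q ∣ ringChar F ^ (n : ℕ) by
        rw [← hnc, C.card]; exact dvd_pow_self _ two_ne_zero)
      have h2q : 2 ∣ C.q := ⟨d, by omega⟩
      rw [hj] at h2q
      have := (Nat.prime_dvd_prime_iff_eq Nat.prime_two hn).1 (Nat.prime_two.dvd_of_dvd_pow h2q)
      exact h2 (by rw [show (2 : F) = ((2 : ℕ) : F) by norm_num, this, ringChar.Nat.cast_ringChar])
  obtain ⟨k, hk⟩ := hodd
  set δ₀ : F := (γ : F) ^ (k + 1) with hδ₀
  have hδsq : δ₀ * δ₀ = (γ : F) * C.σ γ := by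
    rw [hδ₀, C.pow, ← pow_add, ← pow_succ']
    congr 1; omega
  have hprim : ∀ w : F, C.σ w = w → w ≠ 0 → ∃ i : ℕ, w = (δ₀ * δ₀) ^ i := fun w hw hw0 => by
    rw [hδsq]; exact hfix w hw hw0
  have hδ0 : δ₀ ≠ 0 := pow_ne_zero _ γ.ne_zero
  set g := δ₀ * δ₀ with hg
  have hgf : C.σ g = g := by rw [hδsq, map_mul, C.invol, mul_comm]
  have hskew : C.σ δ₀ = -δ₀ := by
    have h1 : (C.σ δ₀ - δ₀) * (C.σ δ₀ + δ₀) = 0 := by
      have : C.σ δ₀ * C.σ δ₀ = δ₀ * δ₀ := by rw [← map_mul]; exact hgf
      linear_combination this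
    rcases mul_eq_zero.1 h1 with h | h
    · exfalso
      obtain ⟨i, hi⟩ := hprim δ₀ (sub_eq_zero.1 h) hδ0
      -- the square root of a primitive element is not fixed
      have hord : orderOf γ = C.q ^ 2 - 1 := by
        rw [orderOf_eq_card_of_forall_mem_zpowers
          (fun z => by
            obtain ⟨j, hj⟩ := hgen (z : F) z.ne_zero
            exact ⟨j, Units.ext (by simpa using hj.symm)⟩), Nat.card_units, Nat.card_eq_fintype_card,
          C.card]
      rw [hg, ← pow_two, ← pow_mul] at hi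
      have hpow : γ ^ ((k + 1) * (2 * i)) = γ ^ (k + 1) := Units.ext (by
        rw [Units.val_pow_eq_pow_val, Units.val_pow_eq_pow_val, pow_mul, ← hδ₀]; exact hi.symm)
      rw [pow_inj_mod, hord] at hpow
      have hd : (k + 1) * 2 ∣ C.q ^ 2 - 1 := ⟨2 * k, by
        rw [hk]
        have : (2 * k + 1) ^ 2 = (k + 1) * 2 * (2 * k) + 1 := by ring
        omega⟩
      have h3 : ((k + 1) * (2 * i)) % ((k + 1) * 2) = (k + 1) % ((k + 1) * 2) :=
        Nat.ModEq.of_dvd hd hpow
      rw [show (k + 1) * (2 * i) = (k + 1) * 2 * i by ring, Nat.mul_mod_right,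
        Nat.mod_eq_of_lt (by omega)] at h3
      omega
    · exact eq_neg_of_add_eq_zero_left h
  have hcase : ∀ z : F, C.σ z = z → (∀ w : F, C.σ w = w → w ≠ 0 → ∃ i : ℕ, w = z ^ i) →
      (∀ w, C.σ w = w → w ∈ Subring.closure {(z - (a : F)) * (z - (a : F))}) ∨
      ∃ r : ℕ, 2 ≤ r ∧ r ^ 2 = C.q ∧ z ^ r ≠ z ∧ ∃ m : F, m ^ r = m ∧ z * z = 2 * (a : F) * z - m ∧
        (2 * (a : F)) ^ r = 2 * (a : F) := by
    intro z hz hpz
    set A := Subring.closure {(z - (a : F)) * (z - (a : F))} with hA
    have hAf : ∀ w ∈ A, C.σ w = w := by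
      intro w hw
      have hle : A ≤ (fixField C).toSubring := Subring.closure_le.2 (by
        rintro x rfl
        show C.σ _ = _
        rw [map_mul, map_sub, hz, map_intCast])
      exact hle hw
    have hs : 2 * (a : F) ∈ A := A.mul_mem (ofNat_mem A 2) (intCast_mem A a)
    have hm : (a : F) * a - (z - (a : F)) * (z - (a : F)) ∈ A :=
      A.sub_mem (A.mul_mem (intCast_mem A a) (intCast_mem A a)) (Subring.subset_closure rfl)
    rcases quadratic_dichotomy hAf hz hs hm (by ring) hpz with h | ⟨hzA, hcard⟩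
    · exact Or.inl h
    refine Or.inr ⟨_, Finite.one_lt_card, hcard, fun hr => hzA ?_, _,
      pow_natCard_eq (B := subfieldOf A) hm, by ring, pow_natCard_eq (B := subfieldOf A) hs⟩
    -- the fixed points of the power map are the elements of `A`
    haveI : Fintype (subfieldOf A) := Fintype.ofFinite _
    by_contra hzA
    have hr2 : 1 < Nat.card (subfieldOf A) := Finite.one_lt_card
    let P : Polynomial F := Polynomial.X ^ Nat.card (subfieldOf A) - Polynomial.X
    have hP : P ≠ 0 := FiniteField.X_pow_card_sub_X_ne_zero F hr2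
    let S : Finset F := insert z (Finset.univ.image fun x : subfieldOf A => (x : F))
    have hsub : S ⊆ P.roots.toFinset := by
      intro x hx
      rw [Multiset.mem_toFinset, Polynomial.mem_roots hP, Polynomial.IsRoot]
      simp only [P, Polynomial.eval_sub, Polynomial.eval_pow, Polynomial.eval_X]
      rw [sub_eq_zero]
      rcases Finset.mem_insert.1 hx with rfl | hx
      · exact hr
      · obtain ⟨y, -, rfl⟩ := Finset.mem_image.1 hx; exact pow_natCard_eq y.2
    have h1 := ((Finset.card_le_card hsub).trans (Multiset.toFinset_card_le _)).trans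
      (Polynomial.card_roots' _)
    rw [Finset.card_insert_of_notMem (by
        intro hmem
        obtain ⟨y, -, hy⟩ := Finset.mem_image.1 hmem
        exact hzA (hy ▸ y.2)),
      Finset.card_image_of_injective _ Subtype.val_injective, Finset.card_univ,
      FiniteField.X_pow_card_sub_X_natDegree_eq F hr2, Nat.card_eq_fintype_card] at h1
    omega
  rcases hcase g hgf hprim with h | ⟨r, hr2, hrq, hgr, m, hm, hgm, hs⟩
  · exact ⟨δ₀, hskew, hδ0, fun A hA w hw => (Subring.closure_le.2 (by rintro x rfl; exact hA)) (h w hw)⟩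
  have hginv : ∀ w : F, C.σ w = w → w ≠ 0 → ∃ i : ℕ, w = g⁻¹ ^ i := fun w hw hw0 => by
    obtain ⟨i, hi⟩ := hprim w⁻¹ (by rw [map_inv₀, hw]) (inv_ne_zero hw0)
    exact ⟨i, by rw [inv_pow, ← hi, inv_inv]⟩
  rcases hcase g⁻¹ (by rw [map_inv₀, hgf]) hginv with h | ⟨r', hr2', hrq', hgr', m', hm', hgm', hs'⟩
  · refine ⟨δ₀⁻¹, by rw [map_inv₀, hskew, inv_neg], inv_ne_zero hδ0, fun A hA w hw => ?_⟩
    rw [← mul_inv, ← hg] at hA
    exact (Subring.closure_le.2 (by rintro x rfl; exact hA)) (h w hw)
  exfalso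
  obtain rfl : r' = r := Nat.pow_left_injective two_ne_zero (hrq'.trans hrq.symm)
  have hg0 : g ≠ 0 := mul_ne_zero hδ0 hδ0
  set s := 2 * (a : F)
  clear_value g s
  have e1 : 1 = s * g⁻¹ - m * (g⁻¹ * g⁻¹) := by
    have : (g * g) * (g⁻¹ * g⁻¹) = 1 := by field_simp
    rw [← this, hgm]; field_simp
  by_cases hm1 : m = 1
  · -- then `g + g⁻¹ = s` and `g ^ r` is one of the two roots
    rw [hm1] at hgm
    have hadd : (g ^ r' - g) * (g ^ r' + g - s) = 0 := by
      have hroot : g ^ r' * g ^ r' = s * g ^ r' - 1 := by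
        obtain ⟨p, hpc⟩ := CharP.exists F
        obtain ⟨n, hp, hn⟩ := FiniteField.card F p
        haveI : Fact p.Prime := ⟨hp⟩
        obtain ⟨j, -, hj⟩ := (Nat.dvd_prime_pow hp).1 (show r' ∣ p ^ (n : ℕ) by
          rw [← hn, C.card, ← hrq, ← pow_mul]; exact dvd_pow_self _ (by norm_num))
        have e := congrArg (iterateFrobenius F p j) hgm
        rw [map_mul, map_sub, map_mul, map_one] at e
        simp only [iterateFrobenius_def, ← hj] at e
        rwa [hs] at e
      linear_combination hroot - hgm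
    rcases mul_eq_zero.1 hadd with h | h
    · exact hgr (sub_eq_zero.1 h)
    have h1 : g ^ (r' + 1) = 1 := by
      rw [pow_succ]; linear_combination g * h - hgm
    have hle := primitive_le hprim (by omega) h1
    rw [← hrq] at hle
    have : r' = 2 := by nlinarith
    refine h2 ?_
    have h0 := FiniteField.cast_card_eq_zero F
    rw [C.card, ← hrq, this, ← pow_mul, Nat.cast_pow, Nat.cast_ofNat] at h0
    exact eq_zero_of_pow_eq_zero h0
  · have e2 : g⁻¹ * (s * (1 - m)) = 1 - m * m' := by
      rw [hgm'] at e1; linear_combination -e1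
    by_cases hs0 : s = 0
    · rw [hs0, zero_mul, zero_sub] at hgm'
      rw [hs0, zero_mul, zero_sub] at hgm
      -- both squares lie in the small field
      have hgg : (g * g) ^ r' = g * g := by
        rw [hgm, neg_pow, hm, Odd.neg_one_pow (by
          by_contra hh
          rw [Nat.not_odd_iff_even] at hh
          have hq : Even C.q := hrq ▸ Nat.even_pow.2 ⟨hh, two_ne_zero⟩
          exact (Nat.not_odd_iff_even.2 hq) ⟨k, hk⟩), neg_one_mul]
      have h1 : g ^ (2 * (r' - 1)) = 1 := by
        have h3 : g ^ (2 * (r' - 1)) * (g * g) = g * g := by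
          conv_rhs => rw [← hgg]
          rw [← pow_two, ← pow_mul, ← pow_add]
          congr 1; omega
        exact mul_right_cancel₀ (mul_ne_zero hg0 hg0) (by rwa [one_mul])
      have hle := primitive_le hprim (by omega) h1
      rw [← hrq] at hle
      obtain ⟨d, rfl⟩ : ∃ d, r' = d + 2 := ⟨r' - 2, by omega⟩
      rw [show d + 2 - 1 = d + 1 by omega] at hle
      nlinarith
    have hne : s * (1 - m) ≠ 0 := mul_ne_zero hs0 (sub_ne_zero.2 (Ne.symm hm1))
    have e3 : g⁻¹ = (1 - m * m') * (s * (1 - m))⁻¹ := by rw [← e2, mul_inv_cancel_right₀ hne]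
    refine hgr' ?_
    obtain ⟨p, hpc⟩ := CharP.exists F
    obtain ⟨n, hp, hn⟩ := FiniteField.card F p
    haveI : Fact p.Prime := ⟨hp⟩
    obtain ⟨j, -, hj⟩ := (Nat.dvd_prime_pow hp).1 (show r' ∣ p ^ (n : ℕ) by
      rw [← hn, C.card, ← hrq, ← pow_mul]; exact dvd_pow_self _ (by norm_num))
    have e := congrArg (iterateFrobenius F p j) e3
    simp only [map_mul, map_inv₀, map_sub, map_one, iterateFrobenius_def, ← hj, hm, hm', hs] at e
    rw [← e3] at e
    rw [inv_pow]
    exact e

/-- Characteristic two: a trace-one element whose norm generates the fixed field. -/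
theorem exists_bee (C : ConjField F) (h2 : (2 : F) = 0) :
    ∃ b : F, b + C.σ b = 1 ∧ ∀ A : Subring F, b * C.σ b ∈ A → ∀ w, C.σ w = w → w ∈ A := by
  classical
  obtain ⟨p, hpc⟩ := CharP.exists F
  obtain ⟨n, hp, hn⟩ := FiniteField.card F p
  have hp2 : p = 2 := by
    have := (CharP.cast_eq_zero_iff F p 2).1 (by exact_mod_cast h2)
    exact (Nat.prime_dvd_prime_iff_eq hp Nat.prime_two).1 this
  subst hp2
  obtain ⟨f, -, hf⟩ := (Nat.dvd_prime_pow Nat.prime_two).1 (show C.q ∣ 2 ^ (n : ℕ) by
    rw [← hn, C.card]; exact dvd_pow_self _ two_ne_zero)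
  have hfn : (n : ℕ) = f * 2 := Nat.pow_right_injective le_rfl (by
    show 2 ^ (n : ℕ) = 2 ^ (f * 2)
    rw [← hn, C.card, hf, pow_mul])
  have hf1 : 1 ≤ f := by
    have := C.two_le
    rcases Nat.eq_zero_or_pos f with h | h
    · rw [hf, h] at this; omega
    · exact h
  obtain ⟨b₀, hb₀⟩ := C.exists_trace_one
  set D := 2 * f / 3 with hD
  let bad : Finset F := (Finset.Icc 1 D).biUnion fun d =>
    Finset.univ.filter fun z : F => z ^ 2 ^ d = z
  haveI : Fintype (fixField C) := Fintype.ofFinite _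
  let T : Finset F := Finset.univ.image fun y : fixField C => b₀ + (y : F)
  have hTcard : T.card = C.q := by
    rw [Finset.card_image_of_injective _ fun a b h => Subtype.ext (add_left_cancel h),
      Finset.card_univ, ← Nat.card_eq_fintype_card, card_fixField]
  have hbad : bad.card < C.q := by
    have h1 : bad.card ≤ ∑ d ∈ Finset.Icc 1 D, 2 ^ d := by
      refine Finset.card_biUnion_le.trans (Finset.sum_le_sum fun d hd => ?_)
      have hd1 : 1 < 2 ^ d := Nat.one_lt_two_pow (by have := (Finset.mem_Icc.1 hd).1; omega)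
      have hsub : (Finset.univ.filter fun z : F => z ^ 2 ^ d = z) ⊆
          (Polynomial.X ^ 2 ^ d - Polynomial.X : Polynomial F).roots.toFinset := by
        intro x hx
        rw [Finset.mem_filter] at hx
        rw [Multiset.mem_toFinset, Polynomial.mem_roots (FiniteField.X_pow_card_sub_X_ne_zero F hd1),
          Polynomial.IsRoot, Polynomial.eval_sub, Polynomial.eval_pow, Polynomial.eval_X, hx.2,
          sub_self]
      refine (Finset.card_le_card hsub).trans ((Multiset.toFinset_card_le _).trans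
        ((Polynomial.card_roots' _).trans ?_))
      rw [FiniteField.X_pow_card_sub_X_natDegree_eq F hd1]
    have h2' : ∀ N, ∑ d ∈ Finset.Icc 1 N, 2 ^ d < 2 ^ (N + 1) := by
      intro N
      induction N with
      | zero => simp
      | succ N ih =>
        rw [Finset.sum_Icc_succ_top (by omega), pow_succ 2 (N + 1)]
        omega
    calc bad.card ≤ _ := h1
      _ < 2 ^ (D + 1) := h2' D
      _ ≤ 2 ^ f := Nat.pow_le_pow_right (by omega) (by omega)
      _ = C.q := hf.symm
  obtain ⟨b, hbT, hbb⟩ : ∃ b ∈ T, b ∉ bad := by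
    by_contra hh
    push Not at hh
    have := Finset.card_le_card (show T ⊆ bad from hh)
    omega
  obtain ⟨y, -, rfl⟩ := Finset.mem_image.1 hbT
  set b := b₀ + (y : F)
  have hbt : b + C.σ b = 1 := by
    show b₀ + (y : F) + C.σ (b₀ + (y : F)) = 1
    rw [map_add, show C.σ (y : F) = y from y.2]
    linear_combination hb₀ + (y : F) * h2
  refine ⟨b, hbt, fun A hA w hw => ?_⟩
  set B := Subfield.closure {b} with hB
  have hBtop : B = ⊤ := by
    by_contra hne
    haveI : Fintype B := Fintype.ofFinite _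
    have hcard := Module.card_eq_pow_finrank (K := B) (V := F)
    set e := Module.finrank B F
    obtain ⟨d, -, hd⟩ := (Nat.dvd_prime_pow Nat.prime_two).1 (show Fintype.card B ∣ 2 ^ (n : ℕ) by
      rw [← hn, hcard]; exact dvd_pow_self _ (Module.finrank_pos).ne')
    rw [hn, hd, ← pow_mul] at hcard
    have hde : (n : ℕ) = d * e := Nat.pow_right_injective le_rfl hcard
    have hd1 : 1 ≤ d := by
      rcases Nat.eq_zero_or_pos d with h | h
      · have := Fintype.one_lt_card (α := B); rw [hd, h] at this; omega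
      · exact h
    have hbd : b ^ 2 ^ d = b := by
      rw [← hd, ← Nat.card_eq_fintype_card]
      exact pow_natCard_eq (Subfield.subset_closure rfl)
    have he1 : e ≠ 1 := by
      intro h
      refine hne (eq_top_iff.2 fun x _ => ?_)
      obtain ⟨c, hc⟩ := (finrank_eq_one_iff_of_nonzero' (1 : F) one_ne_zero).1 h x
      rw [← hc, Subfield.smul_def, smul_eq_mul, mul_one]
      exact c.2
    have he2 : e ≠ 2 := by
      intro h
      rw [h, hfn] at hde
      rw [show d = f by omega, ← hf, ← C.pow] at hbd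
      rw [hbd] at hbt
      exact one_ne_zero (α := F) (by linear_combination -hbt + b * h2)
    have he3 : 3 ≤ e := by have := Module.finrank_pos (R := B) (M := F); omega
    refine hbb (Finset.mem_biUnion.2 ⟨d, Finset.mem_Icc.2 ⟨hd1, ?_⟩,
      Finset.mem_filter.2 ⟨Finset.mem_univ _, hbd⟩⟩)
    rw [hD, Nat.le_div_iff_mul_le (by omega)]
    calc d * 3 ≤ d * e := Nat.mul_le_mul_left d he3
      _ = 2 * f := by omega
  -- every element is `x + y b` with fixed `x, y` in the ring
  set A' := A ⊓ (fixField C).toSubring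
  have hN : b * C.σ b ∈ A' := ⟨hA, by show C.σ _ = _; rw [map_mul, C.invol, mul_comm]⟩
  let R : Subring F :=
    { carrier := {z | ∃ u ∈ A', ∃ v ∈ A', z = u + v * b}
      zero_mem' := ⟨0, A'.zero_mem, 0, A'.zero_mem, by ring⟩
      one_mem' := ⟨1, A'.one_mem, 0, A'.zero_mem, by ring⟩
      add_mem' := by
        rintro _ _ ⟨u, hu, v, hv, rfl⟩ ⟨u', hu', v', hv', rfl⟩
        exact ⟨u + u', A'.add_mem hu hu', v + v', A'.add_mem hv hv', by ring⟩
      neg_mem' := by
        rintro _ ⟨u, hu, v, hv, rfl⟩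
        exact ⟨-u, A'.neg_mem hu, -v, A'.neg_mem hv, by ring⟩
      mul_mem' := by
        rintro _ _ ⟨u, hu, v, hv, rfl⟩ ⟨u', hu', v', hv', rfl⟩
        exact ⟨u * u' - v * v' * (b * C.σ b),
          A'.sub_mem (A'.mul_mem hu hu') (A'.mul_mem (A'.mul_mem hv hv') hN),
          u * v' + v * u' + v * v', A'.add_mem (A'.add_mem (A'.mul_mem hu hv') (A'.mul_mem hv hu'))
            (A'.mul_mem hv hv'),
          by linear_combination (v * v' * b) * hbt⟩ }
  have hR : w ∈ subfieldOf R := by
    have hle : B ≤ subfieldOf R := Subfield.closure_le.2 (by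
      rintro x rfl
      exact ⟨0, A'.zero_mem, 1, A'.one_mem, by ring⟩)
    exact hle (by rw [hBtop]; exact Subfield.mem_top w)
  obtain ⟨u, hu, v, hv, rfl⟩ := hR
  have hu' : C.σ u = u := hu.2
  have hv' : C.σ v = v := hv.2
  rw [map_add, map_mul, hu', hv'] at hw
  have hv0 : v = 0 := by
    have : v * (b + C.σ b) = 0 := by linear_combination hw + v * b * h2
    rwa [hbt, mul_one] at this
  rw [hv0, zero_mul, add_zero]
  exact hu.1

end CfsgLib.SUThreeUnipotent
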