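import Cfsg.Agent.SUThreeUnipotent.Frame

/-!
# The regular unipotent element of `SU` in odd dimension and its opposite
-/

set_option autoImplicit false

namespace CfsgLib.SUThreeUnipotent

open Matrix CfsgLib.RepBounds.Unit

variable {F : Type*} [Field F] [Fintype F] {C : ConjField F} {ι : Type*} [Fintype ι] [DecidableEq ι]
  {l : ℕ}

/-- A chosen Eichler element (the identity if there is none). -/
noncomputable def eichler (C : ConjField F) (a w : ι → F) (c : F) : suG C ι :=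
  letI := Classical.propDecidable (∃ g : suG C ι, IsE C g a w c)
  if h : ∃ g : suG C ι, IsE C g a w c then h.choose else 1

theorem isE_eichler {a w : ι → F} {c : F} (ha : herm C a a = 0) (hw : herm C w a = 0)
    (hc : c + C.σ c + herm C w w = 0) : IsE C (eichler C a w c) a w c := by
  rw [eichler, dif_pos (exists_isE C ha hw hc)]
  exact (exists_isE C ha hw hc).choose_spec

namespace Frame

variable (Φ : Frame C l ι)

theorem e_self {i : ℕ} (hi : i ≤ l) : herm C (Φ.e i) (Φ.e i) = 0 := Φ.ee i i hi hi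

theorem e_ne_zero {i : ℕ} (hi : i ≤ l) : Φ.e i ≠ 0 := by
  intro h
  have := Φ.ef i i hi hi
  rw [h, herm_zero_left, if_pos rfl] at this
  exact zero_ne_one this

/-- A root element of the Levi subgroup. -/
noncomputable def step (i : ℕ) : suG C ι := eichler C (Φ.e i) (-Φ.f (i + 1)) 0

theorem isE_step {i : ℕ} (hi : i < l) : IsE C (Φ.step i) (Φ.e i) (-Φ.f (i + 1)) 0 := by
  refine isE_eichler (Φ.e_self hi.le) ?_ ?_
  · rw [herm_neg_left, Φ.fe (by omega) hi.le, if_neg (by omega), neg_zero]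
  · rw [herm_neg_left, herm_neg_r, Φ.ff _ _ (by omega) (by omega), map_zero]; ring

/-- The bidiagonal product of root elements. -/
noncomputable def levi : ℕ → suG C ι
  | 0 => 1
  | j + 1 => Φ.step j * levi j

theorem levi_e : ∀ j, j ≤ l → ∀ i, i ≤ l → app C (Φ.levi j) (Φ.e i) =
    Φ.e i + if 1 ≤ i ∧ i ≤ j then Φ.e (i - 1) else 0 := by
  intro j
  induction j with
  | zero => intro _ i _; rw [levi, app_one, if_neg (by omega), add_zero]
  | succ j ih =>
    intro hj i hi
    rw [levi, app_mul, ih (by omega) i hi]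
    have hstep : ∀ a, a ≤ l → app C (Φ.step j) (Φ.e a) =
        Φ.e a + if a = j + 1 then Φ.e j else 0 := fun a ha => by
      rw [Φ.isE_step (by omega), Φ.ee a j ha (by omega), herm_neg_r, Φ.ef a (j + 1) ha hj]
      by_cases h : a = j + 1
      · rw [if_pos h, if_pos h]; simp
      · rw [if_neg h, if_neg h]; simp
    rw [app_add, hstep i hi]
    by_cases h : 1 ≤ i ∧ i ≤ j
    · rw [if_pos h, if_neg (by omega), if_pos (by omega), add_zero, hstep _ (by omega),
        if_neg (by omega), add_zero]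
    · rw [if_neg h, app_zero, add_zero]
      by_cases h' : i = j + 1
      · subst h'; rw [if_pos rfl, if_pos (by omega)]; rfl
      · rw [if_neg h', if_neg (by omega)]

theorem levi_x0 : ∀ j, j ≤ l → app C (Φ.levi j) Φ.x0 = Φ.x0 := by
  intro j
  induction j with
  | zero => intro _; rw [levi, app_one]
  | succ j ih =>
    intro hj
    rw [levi, app_mul, ih (by omega), Φ.isE_step (by omega), Φ.xe (by omega), herm_neg_r,
      Φ.xf hj]
    simp

theorem step_f {j : ℕ} (hj : j < l) {a : ℕ} (ha : a ≤ l) :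
    app C (Φ.step j) (Φ.f a) = if a = j then Φ.f j - Φ.f (j + 1) else Φ.f a := by
  rw [Φ.isE_step hj, Φ.fe ha hj.le, herm_neg_r, Φ.ff a (j + 1) ha hj]
  by_cases h : a = j
  · subst h; rw [if_pos rfl, if_pos rfl]; module
  · rw [if_neg h, if_neg h]; simp

theorem levi_f_fix : ∀ j, j ≤ l → ∀ a, j ≤ a → a ≤ l → app C (Φ.levi j) (Φ.f a) = Φ.f a := by
  intro j
  induction j with
  | zero => intro _ a _ _; rw [levi, app_one]
  | succ j ih =>
    intro hj a hja ha
    rw [levi, app_mul, ih (by omega) a (by omega) ha, Φ.step_f hj ha, if_neg (by omega)]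

theorem levi_f : ∀ j, j ≤ l → ∀ a, a < j →
    app C (Φ.levi j) (Φ.f a + Φ.f (a + 1)) = Φ.f a := by
  intro j
  induction j with
  | zero => intro _ a ha; omega
  | succ j ih =>
    intro hj a ha
    rw [levi, app_mul]
    rcases Nat.lt_or_ge a j with h | h
    · rw [ih (by omega) a h, Φ.step_f hj (by omega), if_neg (by omega)]
    · have e : a = j := by omega
      subst e
      rw [app_add, Φ.levi_f_fix a (by omega) a le_rfl (by omega),
        Φ.levi_f_fix a (by omega) (a + 1) (by omega) hj, app_add, Φ.step_f hj (by omega),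
        Φ.step_f hj hj, if_pos rfl, if_neg (by omega)]
      abel

/-- The short root element. -/
noncomputable def short (b : F) : suG C ι := eichler C (Φ.e l) (-Φ.x0) b

theorem isE_short {b : F} (hb : b + C.σ b = -1) :
    IsE C (Φ.short b) (Φ.e l) (-Φ.x0) b := by
  refine isE_eichler (Φ.e_self le_rfl) ?_ ?_
  · rw [herm_neg_left, Φ.xe le_rfl, neg_zero]
  · rw [herm_neg_left, herm_neg_r, Φ.xx, neg_neg]; linear_combination hb

/-- The regular unipotent element. -/
noncomputable def reg (b : F) : suG C ι := Φ.short b * Φ.levi l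

variable {b : F} (hb : b + C.σ b = -1)

include hb in
theorem reg_e_zero : app C (Φ.reg b) (Φ.e 0) = Φ.e 0 := by
  rw [reg, app_mul, Φ.levi_e l le_rfl 0 (Nat.zero_le l), if_neg (by omega), add_zero,
    Φ.isE_short hb, Φ.ee 0 l (Nat.zero_le l) le_rfl, herm_neg_r, Φ.ex 0 (Nat.zero_le l)]
  simp

include hb in
theorem short_e {i : ℕ} (hi : i ≤ l) : app C (Φ.short b) (Φ.e i) = Φ.e i := by
  rw [Φ.isE_short hb, Φ.ee i l hi le_rfl, herm_neg_r, Φ.ex i hi]
  simp

include hb in
theorem reg_e {i : ℕ} (hi : i < l) :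
    app C (Φ.reg b) (Φ.e (i + 1)) = Φ.e (i + 1) + Φ.e i := by
  rw [reg, app_mul, Φ.levi_e l le_rfl (i + 1) hi, if_pos (by omega), app_add,
    Φ.short_e hb hi, Φ.short_e hb (by omega : i + 1 - 1 ≤ l)]
  rfl

include hb in
theorem reg_f {i : ℕ} (hi : i < l) : app C (Φ.reg b) (Φ.f i + Φ.f (i + 1)) = Φ.f i := by
  rw [reg, app_mul, Φ.levi_f l le_rfl i hi, Φ.isE_short hb, Φ.fe hi.le le_rfl,
    if_neg (by omega), herm_neg_r, Φ.fx i hi.le]
  simp

include hb in
theorem reg_f_last : app C (Φ.reg b) (Φ.f l) = Φ.f l - Φ.x0 + b • Φ.e l := by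
  rw [reg, app_mul, Φ.levi_f_fix l le_rfl l le_rfl le_rfl, Φ.isE_short hb, Φ.fe le_rfl le_rfl,
    if_pos rfl, herm_neg_r, Φ.fx l le_rfl]
  module

include hb in
theorem reg_x0 : app C (Φ.reg b) Φ.x0 = Φ.x0 + Φ.e l := by
  rw [reg, app_mul, Φ.levi_x0 l le_rfl, Φ.isE_short hb, Φ.xe le_rfl, herm_neg_r, Φ.xx]
  module

/-! ### The exchange of the two halves -/

/-- The exchange on one pair. -/
noncomputable def swapPair (c : F) (i : ℕ) : suG C ι :=
  eichler C (Φ.f i) 0 c * eichler C (Φ.e i) 0 (-c⁻¹) * eichler C (Φ.f i) 0 c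

/-- The exchange on the first `j` pairs. -/
noncomputable def swapAll (c : F) : ℕ → suG C ι
  | 0 => 1
  | j + 1 => Φ.swapPair c j * swapAll c j

variable {c : F} (hc : c ∈ C.skew) (hc0 : c ≠ 0)

include hc in
theorem isE_ft {i : ℕ} (hi : i ≤ l) : IsE C (eichler C (Φ.f i) 0 c) (Φ.f i) 0 c :=
  isE_eichler (Φ.ff i i hi hi) (herm_zero_left C _) (by rw [herm_zero_left, add_zero]; exact hc)

include hc in
theorem isE_et {i : ℕ} (hi : i ≤ l) : IsE C (eichler C (Φ.e i) 0 (-c⁻¹)) (Φ.e i) 0 (-c⁻¹) :=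
  isE_eichler (Φ.e_self hi) (herm_zero_left C _)
    (by rw [herm_zero_left, add_zero]; exact neg_mem (ConjField.inv_mem C hc))

include hc hc0 in
theorem swapPair_self {i : ℕ} (hi : i ≤ l) :
    app C (Φ.swapPair c i) (Φ.e i) = c • Φ.f i ∧
      app C (Φ.swapPair c i) (Φ.f i) = (-c⁻¹) • Φ.e i := by
  have hef : herm C (Φ.e i) (Φ.f i) = 1 := by rw [Φ.ef i i hi hi, if_pos rfl]
  have hfe : herm C (Φ.f i) (Φ.e i) = 1 := by rw [Φ.fe hi hi, if_pos rfl]
  constructor <;>
    · rw [swapPair, app_mul, app_mul, Φ.isE_ft hc hi, Φ.isE_et hc hi, Φ.isE_ft hc hi]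
      simp only [herm_zero_right, herm_add_left, herm_smul_left, smul_zero, hef, hfe,
        Φ.ff i i hi hi, Φ.e_self hi, sub_zero, add_zero, mul_zero, mul_one, zero_smul, zero_add]
      match_scalars <;> field_simp <;> ring

include hc in
theorem swapPair_other {i : ℕ} (hi : i ≤ l) {x : ι → F} (he : herm C x (Φ.e i) = 0)
    (hf : herm C x (Φ.f i) = 0) : app C (Φ.swapPair c i) x = x := by
  have h1 : app C (eichler C (Φ.f i) 0 c) x = x := by
    rw [Φ.isE_ft hc hi, hf, herm_zero_right]; simp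
  have h2 : app C (eichler C (Φ.e i) 0 (-c⁻¹)) x = x := by
    rw [Φ.isE_et hc hi, he, herm_zero_right]; simp
  rw [swapPair, app_mul, app_mul, h1, h2, h1]

include hc hc0 in
theorem swapAll_apply : ∀ j, j ≤ l + 1 → ∀ i, i ≤ l →
    app C (Φ.swapAll c j) (Φ.e i) = (if i < j then c • Φ.f i else Φ.e i) ∧
    app C (Φ.swapAll c j) (Φ.f i) = (if i < j then (-c⁻¹) • Φ.e i else Φ.f i) := by
  intro j
  induction j with
  | zero =>
    intro _ i _
    rw [swapAll, app_one, app_one, if_neg (by omega), if_neg (by omega)]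
    exact ⟨rfl, rfl⟩
  | succ j ih =>
    intro hj i hi
    have hjl : j ≤ l := by omega
    obtain ⟨h1, h2⟩ := ih (by omega) i hi
    rw [swapAll, app_mul, app_mul, h1, h2]
    rcases Nat.lt_trichotomy i j with h | h | h
    · rw [if_pos h, if_pos h, if_pos (show i < j + 1 by omega), if_pos (show i < j + 1 by omega),
        app_smul, app_smul, Φ.swapPair_other hc hjl (by rw [Φ.fe hi hjl, if_neg (by omega)])
          (Φ.ff i j hi hjl), Φ.swapPair_other hc hjl (Φ.ee i j hi hjl)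
          (by rw [Φ.ef i j hi hjl, if_neg (by omega)])]
      exact ⟨rfl, rfl⟩
    · subst h
      rw [if_neg (lt_irrefl _), if_neg (lt_irrefl _), if_pos (by omega), if_pos (by omega)]
      exact Φ.swapPair_self hc hc0 hi
    · rw [if_neg (by omega), if_neg (by omega), if_neg (by omega), if_neg (by omega),
        Φ.swapPair_other hc hjl (Φ.ee i j hi hjl) (by rw [Φ.ef i j hi hjl, if_neg (by omega)]),
        Φ.swapPair_other hc hjl (by rw [Φ.fe hi hjl, if_neg (by omega)]) (Φ.ff i j hi hjl)]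
      exact ⟨rfl, rfl⟩

/-- The conjugating element. -/
noncomputable def swp (c : F) : suG C ι := Φ.swapAll c (l + 1)

/-- The opposite regular unipotent element. -/
noncomputable def opp (b c : F) : suG C ι := Φ.swp c * Φ.reg b * (Φ.swp c)⁻¹

/-- The Coxeter element `u⁻¹ v⁻¹`. -/
noncomputable def cox (b c : F) : suG C ι := (Φ.reg b)⁻¹ * (Φ.opp b c)⁻¹

theorem opp_conj (x : ι → F) :
    app C (Φ.opp b c) (app C (Φ.swp c) x) = app C (Φ.swp c) (app C (Φ.reg b) x) := by
  rw [opp, app_mul, app_inv_app, app_mul]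

include hb hc hc0 in
theorem cox_e {i : ℕ} (hi : i < l) : app C (Φ.cox b c) (Φ.e i) = Φ.e (i + 1) := by
  have hw : ∀ a, a ≤ l → app C (Φ.swp c) (Φ.f a) = (-c⁻¹) • Φ.e a := fun a ha => by
    rw [swp, (Φ.swapAll_apply hc hc0 _ le_rfl a ha).2, if_pos (by omega)]
  have h := Φ.opp_conj (b := b) (c := c) (Φ.f i + Φ.f (i + 1))
  rw [Φ.reg_f hb hi, app_add, hw i (by omega), hw _ hi, ← smul_add, app_smul] at h
  have h' := smul_right_injective _ (neg_ne_zero.2 (inv_ne_zero hc0)) h
  rw [cox, app_mul]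
  refine app_inv_eq C ?_
  rw [Φ.reg_e hb hi, add_comm]
  exact (app_inv_eq C h').symm

include hb in
theorem herm_last_reg_f : ∀ d, d ≤ l →
    herm C (Φ.f l) (app C (Φ.reg b) (Φ.f (l - d))) = (-1) ^ d * C.σ b := by
  intro d
  induction d with
  | zero =>
    intro _
    rw [Nat.sub_zero, Φ.reg_f_last hb, herm_add_right, herm_sub_right, herm_smul_right,
      Φ.ff l l le_rfl le_rfl, Φ.fx l le_rfl, Φ.fe le_rfl le_rfl, if_pos rfl, pow_zero]
    ring
  | succ d ih =>
    intro hd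
    have h := Φ.reg_f hb (i := l - (d + 1)) (by omega)
    rw [app_add, ← eq_sub_iff_add_eq, show l - (d + 1) + 1 = l - d by omega] at h
    rw [h, herm_sub_right, Φ.ff l _ le_rfl (by omega), ih (by omega), pow_succ]
    ring

include hb hc hc0 in
theorem cox_pairing : herm C (app C (Φ.cox b c) (Φ.e l)) (Φ.e 0) =
    c⁻¹⁻¹ * C.σ (c⁻¹⁻¹) * ((-1) ^ l * C.σ b) := by
  have hw : ∀ a, a ≤ l → Φ.e a = app C (Φ.swp c) ((-c) • Φ.f a) := fun a ha => by
    rw [app_smul, swp, (Φ.swapAll_apply hc hc0 _ le_rfl a ha).2, if_pos (by omega), smul_smul,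
      neg_mul_neg, mul_inv_cancel₀ hc0, one_smul]
  have hinv : (Φ.cox b c)⁻¹ = Φ.opp b c * Φ.reg b := by rw [cox]; group
  calc herm C (app C (Φ.cox b c) (Φ.e l)) (Φ.e 0)
      = herm C (Φ.e l) (app C (Φ.cox b c)⁻¹ (Φ.e 0)) := by
        rw [← herm_app C (Φ.cox b c)⁻¹, app_inv_app]
    _ = _ := by
        rw [hinv, app_mul, Φ.reg_e_zero hb, hw 0 (Nat.zero_le l), Φ.opp_conj, hw l le_rfl,
          herm_app, app_smul, herm_smul_left, herm_smul_right]
        have := Φ.herm_last_reg_f hb l le_rfl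
        rw [Nat.sub_self] at this
        rw [this, inv_inv, map_neg]
        ring

/-! ### Regularity -/

/-- The flag basis. -/
def flag (k : ℕ) : ι → F :=
  if k ≤ l then Φ.e k else if k = l + 1 then Φ.x0 else Φ.f (2 * l + 2 - k)

/-- `u - 1`. -/
noncomputable def nil (b : F) : Matrix ι ι F := (Φ.reg b).1.1 - 1

theorem nil_mulVec (x : ι → F) : Φ.nil b *ᵥ x = app C (Φ.reg b) x - x := by
  rw [nil, Matrix.sub_mulVec, Matrix.one_mulVec]; rfl

include hb in
theorem nil_flag_succ {k : ℕ} (hk : k + 1 < 2 * l + 3) : ∃ p r : F, p ≠ 0 ∧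
    Φ.nil b *ᵥ Φ.flag (k + 1) = p • Φ.flag k + r • (Φ.nil b *ᵥ Φ.flag k) := by
  rcases (show k < l ∨ k = l ∨ k = l + 1 ∨ l + 2 ≤ k by omega) with h | h | h | h
  · refine ⟨1, 0, one_ne_zero, ?_⟩
    rw [flag, if_pos (by omega), flag, if_pos (by omega), Φ.nil_mulVec, Φ.reg_e hb h]
    module
  · subst h
    refine ⟨1, 0, one_ne_zero, ?_⟩
    rw [flag, if_neg (by omega), if_pos rfl, flag, if_pos le_rfl, Φ.nil_mulVec, Φ.reg_x0 hb]
    module
  · subst h
    refine ⟨-1, b, by simp, ?_⟩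
    rw [flag, if_neg (by omega), if_neg (by omega), flag, if_neg (by omega), if_pos rfl,
      show 2 * l + 2 - (l + 1 + 1) = l by omega, Φ.nil_mulVec, Φ.nil_mulVec, Φ.reg_f_last hb,
      Φ.reg_x0 hb]
    module
  · refine ⟨-1, -1, by simp, ?_⟩
    rw [flag, if_neg (by omega), if_neg (by omega), flag, if_neg (by omega), if_neg (by omega),
      show 2 * l + 2 - k = 2 * l + 2 - (k + 1) + 1 by omega, Φ.nil_mulVec, Φ.nil_mulVec]
    have h' := Φ.reg_f hb (i := 2 * l + 2 - (k + 1)) (by omega)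
    rw [app_add, ← eq_sub_iff_add_eq] at h'
    rw [h']
    module

include hb in
theorem nil_flag_zero : Φ.nil b *ᵥ Φ.flag 0 = 0 := by
  rw [flag, if_pos (Nat.zero_le l), Φ.nil_mulVec, Φ.reg_e_zero hb, sub_self]

include hb in
theorem nil_pow_flag (j : ℕ) : ∀ i, i < j → i < 2 * l + 3 → (Φ.nil b) ^ j *ᵥ Φ.flag i = 0 := by
  intro i
  induction i generalizing j with
  | zero =>
    intro hj _
    obtain ⟨j, rfl⟩ : ∃ k, j = k + 1 := ⟨j - 1, by omega⟩
    rw [pow_succ, ← Matrix.mulVec_mulVec, Φ.nil_flag_zero hb, Matrix.mulVec_zero]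
  | succ i ih =>
    intro hj hi
    obtain ⟨j, rfl⟩ : ∃ k, j = k + 1 := ⟨j - 1, by omega⟩
    obtain ⟨p, r, -, h⟩ := Φ.nil_flag_succ hb hi
    rw [pow_succ, ← Matrix.mulVec_mulVec, h, Matrix.mulVec_add, Matrix.mulVec_smul,
      Matrix.mulVec_smul, ih j (by omega) (by omega), Matrix.mulVec_mulVec, ← pow_succ,
      ih (j + 1) (by omega) (by omega), smul_zero, smul_zero, add_zero]

include hb in
theorem nil_pow_flag_self : ∀ i, i < 2 * l + 3 →
    ∃ p : F, p ≠ 0 ∧ (Φ.nil b) ^ i *ᵥ Φ.flag i = p • Φ.flag 0 := by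
  intro i
  induction i with
  | zero => intro _; exact ⟨1, one_ne_zero, by simp⟩
  | succ i ih =>
    intro hi
    obtain ⟨p, r, hp, h⟩ := Φ.nil_flag_succ hb hi
    obtain ⟨p', hp', h'⟩ := ih (by omega)
    refine ⟨p * p', mul_ne_zero hp hp', ?_⟩
    rw [pow_succ, ← Matrix.mulVec_mulVec, h, Matrix.mulVec_add, Matrix.mulVec_smul,
      Matrix.mulVec_smul, h', Matrix.mulVec_mulVec, ← pow_succ,
      Φ.nil_pow_flag hb (i + 1) i (by omega) (by omega), smul_zero, add_zero, smul_smul]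

include hb in
theorem isNilpotent_nil : IsNilpotent (Φ.nil b) := by
  refine ⟨2 * l + 3, Matrix.ext_iff_mulVec.2 fun x => ?_⟩
  rw [Matrix.zero_mulVec]
  induction Φ.span (Submodule.mem_top (x := x)) using Submodule.span_induction with
  | mem v hv =>
    obtain ⟨k, hk, rfl⟩ : ∃ k, k < 2 * l + 3 ∧ v = Φ.flag k := by
      rcases hv with (⟨i, hi, rfl⟩ | ⟨i, hi, rfl⟩) | hv
      · exact ⟨i, by simp at hi; omega, by rw [flag, if_pos (by simpa using hi)]⟩
      · simp at hi
        refine ⟨2 * l + 2 - i, by omega, ?_⟩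
        rw [flag, if_neg (by omega), if_neg (by omega),
          show 2 * l + 2 - (2 * l + 2 - i) = i by omega]
      · exact ⟨l + 1, by omega, by rw [Set.mem_singleton_iff.1 hv, flag, if_neg (by omega), if_pos rfl]⟩
    exact Φ.nil_pow_flag hb _ k hk hk
  | zero => exact Matrix.mulVec_zero _
  | add a b' _ _ ha hb' => rw [Matrix.mulVec_add, ha, hb', add_zero]
  | smul r a _ ha => rw [Matrix.mulVec_smul, ha, smul_zero]

include hb in
theorem nil_pow_ne_zero : (Φ.nil b) ^ (2 * l + 2) ≠ 0 := by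
  intro h
  obtain ⟨p, hp, h'⟩ := Φ.nil_pow_flag_self hb (2 * l + 2) (by omega)
  rw [h, Matrix.zero_mulVec] at h'
  have : Φ.flag 0 = Φ.e 0 := if_pos (Nat.zero_le l)
  rw [this] at h'
  exact smul_ne_zero hp (Φ.e_ne_zero (Nat.zero_le l)) h'.symm

end Frame

end CfsgLib.SUThreeUnipotent
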