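import Cfsg.Agent.SUThreeUnipotent.Engine
import Cfsg.Agent.SUThreeUnipotent.Criterion
import Cfsg.Agent.SUThreeUnipotent.Unipotent

/-!
# Three conjugates of a regular unipotent element generate `SU` in odd dimension at least five
-/

set_option autoImplicit false

namespace CfsgLib.SUThreeUnipotent

open Matrix CfsgLib.RepBounds.Unit

variable {F : Type*} [Field F] [Fintype F] {C : ConjField F} {ι : Type*} [Fintype ι] [DecidableEq ι]
  {H : Subgroup (suG C ι)} {l : ℕ}

/-- All Eichler elements of the totally isotropic space. -/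
theorem Frame.elems (Φ : Frame C l ι) (hall : ∀ i, i ≤ l → ∀ j, j ≤ l → ∀ r : F,
    MemE H (Φ.e i) (r • Φ.e j) 0 ∧ ∀ c ∈ C.skew, MemE H (Φ.e i) 0 c) :
    ∀ a ∈ Φ.W, ∀ d ∈ Φ.W, ∀ c ∈ C.skew, MemE H a d c := by
  have hiso : ∀ {x y : ι → F}, x ∈ Φ.W → y ∈ Φ.W → herm C x y = 0 := fun hx hy => Φ.herm_W hx hy
  have h1 : ∀ i, i ≤ l → ∀ d ∈ Φ.W, ∀ r : F, MemE H (Φ.e i) (r • d) 0 := by
    intro i hi d hd
    induction hd using Submodule.span_induction with
    | mem d hd => obtain ⟨j, hj, rfl⟩ := hd; exact fun r => (hall i hi j hj r).1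
    | zero => intro r; rw [smul_zero]; exact memE_zero H _
    | add x y hx hy hx' hy' =>
      intro r
      rw [smul_add]
      exact (hx' r).add (hy' r) (hiso (Φ.e_mem hi) (Φ.e_mem hi))
        (hiso (Φ.W.smul_mem _ hx) (Φ.e_mem hi)) (hiso (Φ.W.smul_mem _ hy) (Φ.e_mem hi))
        (hiso (Φ.W.smul_mem _ hy) (Φ.W.smul_mem _ hx))
    | smul k x _ hx' => intro r; rw [smul_smul]; exact hx' _
  have h2 : ∀ a ∈ Φ.W, ∀ d ∈ Φ.W, MemE H a d 0 := by
    intro a ha
    induction ha using Submodule.span_induction with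
    | mem a ha => obtain ⟨i, hi, rfl⟩ := ha; intro d hd; simpa using h1 i hi d hd 1
    | zero => intro d _; exact memE_zero_left H _ _
    | add x y hx hy hx' hy' =>
      intro d hd
      exact (hx' d hd).add_left (hy' d hd) (hiso hd hd) (hiso hx hd) (hiso hy hd) (hiso hy hx)
    | smul k x _ hx' => intro d hd; rw [memE_smul, zero_mul]; exact hx' _ (Φ.W.smul_mem _ hd)
  have h3 : ∀ a ∈ Φ.W, ∀ c ∈ C.skew, MemE H a 0 c := by
    intro a ha
    induction ha using Submodule.span_induction with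
    | mem a ha => obtain ⟨i, hi, rfl⟩ := ha; exact (hall i hi i hi 0).2
    | zero => intro c _; exact memE_zero_left H _ _
    | add x y hx hy hx' hy' =>
      intro c hc
      exact memE_sum hc (hiso hx hx) (hiso hy hy) (hiso hx hy) (h2 x hx _ (Φ.W.smul_mem _ hy))
        (hx' c hc) (hy' c hc)
    | smul k x _ hx' =>
      intro c hc
      rw [memE_smul, smul_zero]
      refine hx' _ ?_
      rw [C.mem_skew, map_mul, map_mul, C.invol, C.skew_eq hc]; ring
  intro a ha d hd c hc
  exact ((h2 a ha d hd).mul (h3 a ha c hc) (hiso ha ha) (hiso hd ha) (herm_zero_left C _)).congr rfl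
    (add_zero d) (by rw [herm_zero_left]; ring)

/-- A subgroup with the basic elements has spanning centres. -/
theorem Frame.span_centres (Φ : Frame C l ι) {b c : F} (hb : b + C.σ b = -1) (hc : c ∈ C.skew)
    (hc0 : c ≠ 0) (hu : Φ.reg b ∈ H) (hv : Φ.opp b c ∈ H)
    (hE : ∀ i, i ≤ l → Centre H (Φ.e i)) :
    Submodule.span F {v | herm C v v = 0 ∧ Centre H v} = ⊤ := by
  by_contra hne
  obtain ⟨φ, hφ, hle⟩ := Submodule.exists_le_ker_of_lt_top _ (lt_top_iff_ne_top.2 hne)
  set y : ι → F := fun i => C.σ (φ (Pi.single i 1)) with hy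
  have hφy : ∀ x, herm C x y = φ x := fun x => by
    conv_rhs => rw [pi_eq_sum_univ' x]
    rw [map_sum, herm]
    exact Finset.sum_congr rfl fun i _ => by rw [map_smul, smul_eq_mul, hy]; simp [C.invol]
  let Y : Set (ι → F) := {y | ∀ v, herm C v v = 0 → Centre H v → herm C y v = 0}
  have hyY : y ∈ Y := fun v h1 h2 => by
    refine herm_comm_zero C ?_
    rw [hφy]
    exact LinearMap.mem_ker.1 (hle (Submodule.subset_span ⟨h1, h2⟩))
  have hy0 : y ≠ 0 := by
    intro h
    refine hφ (LinearMap.ext fun x => ?_)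
    rw [← hφy, h, herm_zero_right, LinearMap.zero_apply]
  have hYmap : ∀ {g : suG C ι}, g ∈ H → ∀ {z}, z ∈ Y → app C g z ∈ Y := by
    intro g hg z hz v h1 h2
    have h := hz (app C g⁻¹ v) (by rw [herm_app, h1]) (h2.map (inv_mem hg))
    rw [← herm_app C g, app_app_inv] at h
    exact h
  have hYe : ∀ {z}, z ∈ Y → ∀ i, i ≤ l → herm C z (Φ.e i) = 0 := fun hz i hi =>
    hz _ (Φ.e_self hi) (hE i hi)
  have hk : Φ.cox b c ∈ H := mul_mem (inv_mem hu) (inv_mem hv)
  set ρ := herm C (app C (Φ.cox b c) (Φ.e l)) (Φ.e 0) with hρ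
  have hρ0 : ρ ≠ 0 := by
    rw [hρ, Φ.cox_pairing hb hc hc0]
    have hb0 : C.σ b ≠ 0 := fun h => by
      rw [(map_eq_zero C.σ).1 h, map_zero, add_zero] at hb
      exact neg_ne_zero.2 one_ne_zero hb.symm
    simp [hc0, hb0]
  -- an element of `Y` inside the span of the `e`'s vanishes
  have hzero : ∀ {z}, z ∈ Y → herm C z Φ.x0 = 0 → z = 0 := by
    intro z hz hzx
    have hc' : ∀ j, j ≤ l → ∀ {z}, z ∈ Y → herm C z Φ.x0 = 0 → herm C z (Φ.f j) = 0 := by
      intro j
      induction j with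
      | zero =>
        intro _ z hz hzx
        have h := hz (app C (Φ.cox b c) (Φ.e l)) (by rw [herm_app, Φ.e_self le_rfl])
          ((hE l le_rfl).map hk)
        have hexp := Φ.expand z (hYe hz)
        rw [hzx, zero_smul, add_zero] at hexp
        rw [hexp, herm_sum_left, Finset.sum_eq_single 0] at h
        · rw [herm_smul_left, ← conj_herm C (app C (Φ.cox b c) (Φ.e l)) (Φ.e 0), ← hρ,
            mul_eq_zero] at h
          exact h.resolve_right ((map_ne_zero C.σ).2 hρ0)
        · intro i hi hi0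
          obtain ⟨a, rfl⟩ : ∃ a, i = a + 1 := ⟨i - 1, by omega⟩
          have hal : a < l := by simpa [Nat.lt_succ_iff] using hi
          rw [herm_smul_left, ← Φ.cox_e hb hc hc0 hal, herm_app, Φ.ee a l hal.le le_rfl, mul_zero]
        · intro h0; exact absurd (Finset.mem_range.2 (by omega)) h0
      | succ j ih =>
        intro hj z hz hzx
        have hz0 : herm C z (Φ.f 0) = 0 := by
          have h := hz (app C (Φ.cox b c) (Φ.e l)) (by rw [herm_app, Φ.e_self le_rfl])
            ((hE l le_rfl).map hk)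
          have hexp := Φ.expand z (hYe hz)
          rw [hzx, zero_smul, add_zero] at hexp
          rw [hexp, herm_sum_left, Finset.sum_eq_single 0] at h
          · rw [herm_smul_left, ← conj_herm C (app C (Φ.cox b c) (Φ.e l)) (Φ.e 0), ← hρ,
              mul_eq_zero] at h
            exact h.resolve_right ((map_ne_zero C.σ).2 hρ0)
          · intro i hi hi0
            obtain ⟨a, rfl⟩ : ∃ a, i = a + 1 := ⟨i - 1, by omega⟩
            have hal : a < l := by simpa [Nat.lt_succ_iff] using hi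
            rw [herm_smul_left, ← Φ.cox_e hb hc hc0 hal, herm_app, Φ.ee a l hal.le le_rfl, mul_zero]
          · intro h0; exact absurd (Finset.mem_range.2 (by omega)) h0
        set g := (Φ.cox b c)⁻¹ with hg
        have hexp := Φ.expand z (hYe hz)
        rw [hzx, zero_smul, add_zero, Finset.sum_range_succ', hz0, zero_smul, add_zero] at hexp
        have himg : app C g z = ∑ i ∈ Finset.range l, herm C z (Φ.f (i + 1)) • Φ.e i := by
          refine app_inv_eq C ?_
          conv_rhs => rw [hexp]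
          rw [app, Matrix.mulVec_sum]
          refine Finset.sum_congr rfl fun i hi => ?_
          show app C (Φ.cox b c) _ = _
          rw [app_smul, Φ.cox_e hb hc hc0 (Finset.mem_range.1 hi)]
        have h2 := ih (by omega) (hYmap (inv_mem hk) hz) (by
          rw [himg, herm_sum_left]
          refine Finset.sum_eq_zero fun i hi => ?_
          rw [herm_smul_left, Φ.ex i (Finset.mem_range.1 hi).le, mul_zero])
        rw [himg, herm_sum_left, Finset.sum_eq_single j] at h2
        · rwa [herm_smul_left, Φ.ef j j (by omega) (by omega), if_pos rfl, mul_one] at h2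
        · intro i hi hij
          rw [herm_smul_left, Φ.ef i j (Finset.mem_range.1 hi).le (by omega), if_neg hij, mul_zero]
        · intro h0; exact absurd (Finset.mem_range.2 (by omega)) h0
    exact Φ.eq_zero (hYe hz) (fun j hj => hc' j hj hz hzx) hzx
  set y' := app C (Φ.reg b) y - y with hy'
  have hy'Y : y' ∈ Y := fun v h1 h2 => by
    rw [hy', herm_sub_left, hYmap hu hyY v h1 h2, hyY v h1 h2, sub_zero]
  have hy'0 : y' = 0 := by
    refine hzero hy'Y ?_
    rw [hy', herm_sub_left]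
    have h : herm C (app C (Φ.reg b) y) (app C (Φ.reg b) Φ.x0) = herm C y Φ.x0 := herm_app C _ _ _
    rw [Φ.reg_x0 hb, herm_add_right, hYe (hYmap hu hyY) l le_rfl, add_zero] at h
    rw [h, sub_self]
  have hx : herm C y Φ.x0 = 0 := by
    have h := herm_app C (Φ.reg b) y (Φ.f l)
    rw [Φ.reg_f_last hb, sub_eq_zero.1 hy'0, herm_add_right, herm_sub_right, herm_smul_right,
      hYe hyY l le_rfl, mul_zero, add_zero] at h
    linear_combination -h
  exact hy0 (hzero hyY hx)

/-- Three conjugates of the regular unipotent element generate. -/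
theorem generate_odd (C : ConjField F) (l : ℕ) (hl : 1 ≤ l) :
    ∃ u g h : suG C (Fin (2 * l + 3)), (IsNilpotent (u.1.1 - 1) ∧ (u.1.1 - 1) ^ (2 * l + 2) ≠ 0) ∧
      Subgroup.closure ({u, g * u * g⁻¹, h * u * h⁻¹} : Set (suG C (Fin (2 * l + 3)))) = ⊤ := by
  obtain ⟨Φ⟩ := exists_frame C l
  obtain ⟨b, hb⟩ : ∃ b : F, b + C.σ b = -1 := by
    obtain ⟨t, ht⟩ := C.exists_trace_one
    exact ⟨-t, by rw [map_neg]; linear_combination -ht⟩
  obtain ⟨c, hc, hc0⟩ := C.exists_skew_ne
  set ρ := herm C (app C (Φ.cox b c) (Φ.e l)) (Φ.e 0) with hρ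
  have hρ' : ρ + C.σ ρ ≠ 0 := by
    rw [hρ, Φ.cox_pairing hb hc hc0]
    simp only [inv_inv, map_mul, map_pow, map_neg, map_one, C.invol]
    rw [show c * C.σ c * ((-1) ^ l * C.σ b) + C.σ c * c * ((-1) ^ l * b) =
      c * C.σ c * (-1) ^ l * (b + C.σ b) by ring, hb]
    simp [hc0]
  obtain ⟨r₀, hr₀, hK⟩ := exists_start C hρ'
  set t := -r₀ with ht
  have hhiso : herm C (t • Φ.x0) (Φ.e 0) = 0 := by
    rw [herm_smul_left, Φ.xe (Nat.zero_le l), mul_zero]
  have hhc : t * C.σ t * b + C.σ (t * C.σ t * b) + herm C (t • Φ.x0) (t • Φ.x0) = 0 := by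
    rw [herm_smul_left, herm_smul_right, Φ.xx, map_mul, map_mul, C.invol]
    linear_combination (t * C.σ t) * hb
  set h := eichler C (Φ.e 0) (t • Φ.x0) (t * C.σ t * b) with hh
  have hhE : IsE C h (Φ.e 0) (t • Φ.x0) (t * C.σ t * b) :=
    isE_eichler (Φ.e_self (Nat.zero_le l)) hhiso hhc
  refine ⟨Φ.reg b, Φ.swp c, h, ⟨Φ.isNilpotent_nil hb, Φ.nil_pow_ne_zero hb⟩, ?_⟩
  set H := Subgroup.closure ({Φ.reg b, Φ.swp c * Φ.reg b * (Φ.swp c)⁻¹, h * Φ.reg b * h⁻¹} :
    Set (suG C (Fin (2 * l + 3))))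
  have hu : Φ.reg b ∈ H := Subgroup.subset_closure (Or.inl rfl)
  have hv : Φ.opp b c ∈ H := Subgroup.subset_closure (Or.inr (Or.inl rfl))
  have hw : h * Φ.reg b * h⁻¹ ∈ H := Subgroup.subset_closure (Or.inr (Or.inr rfl))
  have hk : Φ.cox b c ∈ H := mul_mem (inv_mem hu) (inv_mem hv)
  have hz : MemE H (Φ.e 0) (r₀ • Φ.e l) 0 := by
    have hinv := (hhE.inv (Φ.e_self (Nat.zero_le l)) hhiso hhc).conj (Φ.reg b)
    rw [Φ.reg_e_zero hb, app_neg, app_smul, Φ.reg_x0 hb] at hinv
    have hprod := hhE.mul hinv (Φ.e_self (Nat.zero_le l)) hhiso (by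
      rw [herm_neg_left, herm_smul_left, herm_add_left, Φ.xe (Nat.zero_le l),
        Φ.ee l 0 le_rfl (Nat.zero_le l)]
      ring)
    refine ⟨h * (Φ.reg b * h⁻¹ * (Φ.reg b)⁻¹), ?_, ?_⟩
    · have := mul_mem hw (inv_mem hu)
      rw [show h * Φ.reg b * h⁻¹ * (Φ.reg b)⁻¹ = h * (Φ.reg b * h⁻¹ * (Φ.reg b)⁻¹) by group] at this
      exact this
    · intro x
      rw [hprod x]
      have e1 : t • Φ.x0 + -(t • (Φ.x0 + Φ.e l)) = r₀ • Φ.e l := by rw [ht]; module
      have e2 : t * C.σ t * b + C.σ (t * C.σ t * b) -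
          herm C (-(t • (Φ.x0 + Φ.e l))) (t • Φ.x0) = 0 := by
        rw [herm_neg_left, herm_smul_left, herm_smul_right, herm_add_left, Φ.xx, Φ.ex l le_rfl,
          map_mul, map_mul, C.invol]
        linear_combination (t * C.σ t) * hb
      rw [e1, e2]
  have hchain : Chain H l Φ.e (Φ.reg b) (Φ.cox b c) :=
    ⟨hl, Φ.ee, hu, hk, Φ.reg_e_zero hb, fun i hi => Φ.reg_e hb hi,
      fun i hi => Φ.cox_e hb hc hc0 hi⟩
  have hall := hchain.pairs_all hρ.symm hρ' hr₀ hK hz
  have hcent : ∀ i, i ≤ l → Centre H (Φ.e i) := fun i hi => (hall i hi i hi 0).2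
  have hS : Setup H Φ.W :=
    ⟨fun a ha b' hb' => Φ.herm_W ha hb', fun v hv h => Φ.mem_W_of_orth hv h, Φ.exists_orth hl,
      Φ.elems hall, Φ.span_centres hb hc hc0 hu hv hcent⟩
  exact hS.eq_top (by rintro ⟨h3, -⟩; rw [Fintype.card_fin] at h3; omega)

end CfsgLib.SUThreeUnipotent
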