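import Cfsg.Agent.SUThreeUnipotent.Unipotent
import Cfsg.Agent.SUThreeUnipotent.Criterion
import Cfsg.Agent.SUThreeUnipotent.Scalars

/-!
# Three conjugates of a regular unipotent element generate `SU_3(q)`, `q ≥ 3`

The generators are `u = E(e, x, b)`, its opposite `v = E(f, x, b)` and a torus conjugate of `u`, whose commutator
with `u` is a prescribed transvection at `e`.
-/

set_option autoImplicit false

namespace CfsgLib.SUThreeUnipotent

open Matrix CfsgLib.RepBounds.Unit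

variable {F : Type*} [Field F] [Fintype F] {C : ConjField F} {ι : Type*} [Fintype ι] [DecidableEq ι]

namespace Frame

variable (Φ : Frame C 0 ι)

/-- Coordinates with respect to `e, -x₀, f`. -/
def vec (a y z : F) : ι → F := a • Φ.e 0 + y • (-Φ.x0) + z • Φ.f 0

theorem herm_vec (a y z : F) :
    herm C (Φ.vec a y z) (Φ.e 0) = z ∧ herm C (Φ.vec a y z) (-Φ.x0) = y ∧
      herm C (Φ.vec a y z) (Φ.f 0) = a := by
  have h0 : (0 : ℕ) ≤ 0 := le_rfl
  simp only [vec, herm_add_left, herm_smul_left, herm_neg_left, herm_neg_r, Φ.ee 0 0 h0 h0,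
    Φ.ff 0 0 h0 h0, Φ.ef 0 0 h0 h0, Φ.fe h0 h0, Φ.xe h0, Φ.xf h0, Φ.ex 0 h0, Φ.fx 0 h0, Φ.xx]
  exact ⟨by simp, by simp, by simp⟩

theorem vec_e : Φ.e 0 = Φ.vec 1 0 0 := by rw [vec]; module

theorem vec_x : -Φ.x0 = Φ.vec 0 1 0 := by rw [vec]; module

theorem vec_f : Φ.f 0 = Φ.vec 0 0 1 := by rw [vec]; module

theorem smul_vec (r a y z : F) : r • Φ.vec a y z = Φ.vec (r * a) (r * y) (r * z) := by
  simp only [vec]; module

theorem add_vec (a y z a' y' z' : F) :
    Φ.vec a y z + Φ.vec a' y' z' = Φ.vec (a + a') (y + y') (z + z') := by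
  simp only [vec]; module

theorem app_e {g : suG C ι} {s d : F} (hg : IsE C g (Φ.e 0) (s • (-Φ.x0)) d) (a y z : F) :
    app C g (Φ.vec a y z) = Φ.vec (a + d * z - C.σ s * y) (y + s * z) z := by
  obtain ⟨h1, h2, -⟩ := Φ.herm_vec a y z
  rw [hg, herm_smul_right, h1, h2, vec, vec]
  module

theorem app_f {g : suG C ι} {s d : F} (hg : IsE C g (Φ.f 0) (s • (-Φ.x0)) d) (a y z : F) :
    app C g (Φ.vec a y z) = Φ.vec a (y + s * a) (z + d * a - C.σ s * y) := by
  obtain ⟨-, h2, h3⟩ := Φ.herm_vec a y z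
  rw [hg, herm_smul_right, h2, h3, vec, vec]
  module

theorem app_transv {g : suG C ι} {c : F} (hg : IsE C g (Φ.e 0) 0 c) (a y z : F) :
    app C g (Φ.vec a y z) = Φ.vec (a + c * z) y z := by
  have h := Φ.app_e (s := 0) (g := g) (d := c) (by rwa [zero_smul]) a y z
  simpa using h

theorem xm_self : herm C (-Φ.x0) (-Φ.x0) = 1 := by rw [herm_neg_left, herm_neg_r, neg_neg, Φ.xx]

theorem xm_e : herm C (-Φ.x0) (Φ.e 0) = 0 := by rw [herm_neg_left, Φ.xe le_rfl, neg_zero]

theorem xm_f : herm C (-Φ.x0) (Φ.f 0) = 0 := by rw [herm_neg_left, Φ.xf le_rfl, neg_zero]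

theorem smul_xm_e (s : F) : herm C (s • (-Φ.x0)) (Φ.e 0) = 0 := by
  rw [herm_smul_left, Φ.xm_e, mul_zero]

theorem herm_smul_xm (s t : F) : herm C (s • (-Φ.x0)) (t • (-Φ.x0)) = s * C.σ t := by
  rw [herm_smul_left, herm_smul_right, Φ.xm_self, mul_one]

theorem valid_e {s d : F} (h : d + C.σ d + s * C.σ s = 0) :
    ∃ g : suG C ι, IsE C g (Φ.e 0) (s • (-Φ.x0)) d :=
  exists_isE C (Φ.e_self le_rfl) (Φ.smul_xm_e s) (by rw [Φ.herm_smul_xm]; exact h)

theorem valid_f {s d : F} (h : d + C.σ d + s * C.σ s = 0) :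
    ∃ g : suG C ι, IsE C g (Φ.f 0) (s • (-Φ.x0)) d :=
  exists_isE C (Φ.ff 0 0 le_rfl le_rfl) (by rw [herm_smul_left, Φ.xm_f, mul_zero])
    (by rw [Φ.herm_smul_xm]; exact h)

/-- A monomial element for every `d ≠ 0`. -/
theorem exists_monomial {d : F} (hd : d ≠ 0) : ∃ g : suG C ι,
    app C g (Φ.e 0) = (C.σ d)⁻¹ • Φ.f 0 ∧ app C g (-Φ.x0) = (-(C.σ d / d)) • (-Φ.x0) ∧
      app C g (Φ.f 0) = d • Φ.e 0 := by
  have hd' : C.σ d ≠ 0 := (map_ne_zero C.σ).2 hd
  obtain ⟨s, hs⟩ := CfsgLib.Forms.exists_mul_involution_eq C.ne_id C.invol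
    (show C.σ (-(d + C.σ d)) = -(d + C.σ d) by rw [map_neg, map_add, C.invol, add_comm])
  obtain ⟨g1, h1⟩ := Φ.valid_e (s := s) (d := d) (by linear_combination hs)
  obtain ⟨g2, h2⟩ := Φ.valid_f (s := -s / C.σ d) (d := (C.σ d)⁻¹) (by
    rw [map_div₀, map_inv₀, map_neg, C.invol]; field_simp; linear_combination hs)
  obtain ⟨g3, h3⟩ := Φ.valid_e (s := s * d / C.σ d) (d := d) (by
    rw [map_div₀, map_mul, C.invol]; field_simp; linear_combination hs)
  have hs' : C.σ d = -d - s * C.σ s := by linear_combination hs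
  refine ⟨g1 * g2 * g3, ?_, ?_, ?_⟩
  · rw [app_mul, app_mul, Φ.vec_e, Φ.app_e h3, Φ.app_f h2, Φ.app_e h1, Φ.vec_f, Φ.smul_vec]
    congr 1 <;> simp only [map_mul, map_div₀, map_inv₀, map_neg, C.invol] <;> field_simp <;>
      (try simp only [hs']) <;> ring
  · rw [app_mul, app_mul, Φ.vec_x, Φ.app_e h3, Φ.app_f h2, Φ.app_e h1, Φ.smul_vec]
    congr 1 <;> simp only [map_mul, map_div₀, map_inv₀, map_neg, C.invol] <;> field_simp <;>
      (try simp only [hs']) <;> ring
  · rw [app_mul, app_mul, Φ.vec_f, Φ.app_e h3, Φ.app_f h2, Φ.app_e h1, Φ.vec_e, Φ.smul_vec]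
    congr 1 <;> simp only [map_mul, map_div₀, map_inv₀, map_neg, C.invol] <;> field_simp <;>
      (try simp only [hs']) <;> ring

variable {b : F} (hb : b + C.σ b = -1)

include hb in
theorem isE_reg : IsE C (Φ.reg b) (Φ.e 0) ((1 : F) • (-Φ.x0)) b := by
  rw [one_smul, reg, levi, mul_one]
  exact Φ.isE_short hb

include hb in
theorem valid_one : b + C.σ b + (1 : F) * C.σ 1 = 0 := by rw [map_one, hb]; ring

/-- The element `G` of the Borel subgroup, characteristic not three. -/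
theorem exists_borel {H : Subgroup (suG C ι)} {u v : suG C ι} (hu : u ∈ H) (hv : v ∈ H)
    (hue : IsE C u (Φ.e 0) ((1 : F) • (-Φ.x0)) b) (hve : IsE C v (Φ.f 0) ((1 : F) • (-Φ.x0)) b)
    (hb : b + C.σ b = -1) (h3 : (3 : F) ≠ 0) (hL : 1 - b * C.σ b ≠ 0)
    (hc : MemE H (Φ.e 0) 0 ((2 * b + 1) / (3 * (1 - b * C.σ b)))) :
    ∃ G ∈ H, app C G (Φ.e 0) = (3 / (1 - b * C.σ b)) • Φ.e 0 ∧
      app C G (-Φ.x0) = -Φ.x0 + ((2 + b) / (1 - b * C.σ b)) • Φ.e 0 := by
  have hσb : C.σ b = -1 - b := by linear_combination hb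
  obtain ⟨T, hT, hTe⟩ := hc
  have key1 : app C (T * (v * (v * v))) (Φ.e 0) =
      (3 / (1 - b * C.σ b)) • app C (v * u * v) (Φ.e 0) := by
    simp only [app_mul, Φ.vec_e, Φ.app_f hve, Φ.app_e hue, Φ.app_transv hTe, map_one, Φ.smul_vec]
    simp only [hσb] at hL ⊢
    congr 1 <;> field_simp <;> ring
  have key2 : app C (T * (v * (v * v))) (-Φ.x0) =
      app C (v * u * v) (-Φ.x0) + ((2 + b) / (1 - b * C.σ b)) • app C (v * u * v) (Φ.e 0) := by
    simp only [app_mul, Φ.vec_e, Φ.vec_x, Φ.app_f hve, Φ.app_e hue, Φ.app_transv hTe, map_one,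
      Φ.smul_vec, Φ.add_vec]
    simp only [hσb] at hL ⊢
    congr 1 <;> field_simp <;> ring
  refine ⟨(v * u * v)⁻¹ * (T * (v * (v * v))),
    mul_mem (inv_mem (mul_mem (mul_mem hv hu) hv)) (mul_mem hT (mul_mem hv (mul_mem hv hv))), ?_, ?_⟩
  · rw [app_mul, key1, app_smul, app_inv_app]
  · rw [app_mul, key2, app_add, app_smul, app_inv_app, app_inv_app]

/-- The element `G` of the Borel subgroup, second word. -/
theorem exists_borel_two {H : Subgroup (suG C ι)} {u v : suG C ι} (hu : u ∈ H) (hv : v ∈ H)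
    (hue : IsE C u (Φ.e 0) ((1 : F) • (-Φ.x0)) b) (hve : IsE C v (Φ.f 0) ((1 : F) • (-Φ.x0)) b)
    (hb : b + C.σ b = -1) (hL : 1 - b * C.σ b ≠ 0)
    (hM : 1 - 3 * (b * C.σ b) - (b * C.σ b) ^ 2 ≠ 0)
    (hc : MemE H (Φ.e 0) 0
      ((2 * b + 1) / ((1 - 3 * (b * C.σ b) - (b * C.σ b) ^ 2) * (1 - b * C.σ b)))) :
    ∃ G ∈ H, app C G (Φ.e 0) =
        ((1 - b * C.σ b) / (1 - 3 * (b * C.σ b) - (b * C.σ b) ^ 2)) • Φ.e 0 ∧
      app C G (-Φ.x0) = -Φ.x0 +
        (b * C.σ b * (2 + b) / (1 - 3 * (b * C.σ b) - (b * C.σ b) ^ 2)) • Φ.e 0 := by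
  have hσb : C.σ b = -1 - b := by linear_combination hb
  set M := 1 - 3 * (b * C.σ b) - (b * C.σ b) ^ 2 with hMd
  obtain ⟨T, hT, hTe⟩ := hc
  obtain ⟨v', hv', hve'⟩ : ∃ v' ∈ H, IsE C v' (Φ.f 0) ((-1 : F) • (-Φ.x0)) (C.σ b) := by
    refine ⟨v⁻¹, inv_mem hv, ?_⟩
    have h := hve.inv (Φ.ff 0 0 le_rfl le_rfl) (by rw [one_smul, Φ.xm_f])
      (by rw [one_smul, Φ.xm_self]; linear_combination hb)
    rwa [← neg_smul] at h
  have key1 : app C (T * (v * u * v)) (Φ.e 0) =
      ((1 - b * C.σ b) / M) •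
        app C (v * u * v' * u * v) (Φ.e 0) := by
    simp only [app_mul, Φ.vec_e, Φ.app_f hve, Φ.app_f hve', Φ.app_e hue, Φ.app_transv hTe, map_one,
      map_neg, C.invol, Φ.smul_vec]
    congr 1 <;> field_simp <;> (try simp only [hMd, hσb]) <;> ring
  have key2 : app C (T * (v * u * v)) (-Φ.x0) = app C (v * u * v' * u * v) (-Φ.x0) +
      (b * C.σ b * (2 + b) / M) •
        app C (v * u * v' * u * v) (Φ.e 0) := by
    simp only [app_mul, Φ.vec_e, Φ.vec_x, Φ.app_f hve, Φ.app_f hve', Φ.app_e hue, Φ.app_transv hTe,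
      map_one, map_neg, C.invol, Φ.smul_vec, Φ.add_vec]
    congr 1 <;> field_simp <;> (try simp only [hMd, hσb]) <;> ring
  refine ⟨(v * u * v' * u * v)⁻¹ * (T * (v * u * v)),
    mul_mem (inv_mem (mul_mem (mul_mem (mul_mem (mul_mem hv hu) hv') hu) hv))
      (mul_mem hT (mul_mem (mul_mem hv hu) hv)), ?_, ?_⟩
  · rw [app_mul, key1, app_smul, app_inv_app]
  · rw [app_mul, key2, app_add, app_smul, app_inv_app, app_inv_app]

/-- If `H` has the whole unipotent radical at `e` and moves `e` off its orthogonal, it is everything. -/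
theorem eq_top_of_unip (hι : ¬ (Fintype.card ι = 3 ∧ C.q = 2)) {H : Subgroup (suG C ι)}
    (hU : ∀ s d', d' + C.σ d' + s * C.σ s = 0 → MemE H (Φ.e 0) (s • (-Φ.x0)) d')
    {v : suG C ι} (hv : v ∈ H) (hv0 : herm C (app C v (Φ.e 0)) (Φ.e 0) ≠ 0) : H = ⊤ := by
  -- every isotropic vector is a centre
  have he := Φ.e_self (le_refl 0)
  have hCe : Centre H (Φ.e 0) := fun c hc =>
    (hU 0 c (by rw [C.skew_eq hc]; ring)).congr rfl (zero_smul F _) rfl
  have hdec : ∀ y, herm C y y = 0 → herm C y (Φ.e 0) = 1 →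
      ∃ g ∈ H, app C g (Φ.f 0) = y := by
    intro y hy hye
    set s := herm C y (-Φ.x0) with hs
    set d' := herm C y (Φ.f 0) with hd'
    have hyv : y = Φ.vec d' s 1 := by
      obtain ⟨h1, h2, h3⟩ := Φ.herm_vec d' s 1
      refine Φ.ext (fun i hi => ?_) (fun i hi => ?_) ?_
      · rw [Nat.le_zero.1 hi, hye, h1]
      · rw [Nat.le_zero.1 hi, h3]
      · have e : herm C y (-Φ.x0) = -herm C y Φ.x0 := herm_neg_r _ _ _
        rw [herm_neg_r] at h2
        linear_combination h2 + hs + e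
    have hval : d' + C.σ d' + s * C.σ s = 0 := by
      rw [hyv] at hy
      simp only [vec, herm_add_left, herm_add_right, herm_smul_left, herm_smul_right, Φ.ee 0 0 le_rfl le_rfl,
        Φ.ff 0 0 le_rfl le_rfl, Φ.xm_self, Φ.xm_e, Φ.xm_f, herm_comm_zero C Φ.xm_e,
        herm_comm_zero C Φ.xm_f, Φ.ef 0 0 le_rfl le_rfl, Φ.fe (le_refl 0) (le_refl 0), if_true,
        map_one] at hy
      linear_combination hy
    obtain ⟨g, hg, hgE⟩ := hU s d' hval
    refine ⟨g, hg, ?_⟩
    rw [Φ.vec_f, Φ.app_e hgE, hyv]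
    congr 1 <;> ring
  have hCf : Centre H (Φ.f 0) := by
    set k := herm C (app C v (Φ.e 0)) (Φ.e 0) with hk
    set y := k⁻¹ • app C v (Φ.e 0) with hy
    have hye : herm C y (Φ.e 0) = 1 := by
      rw [hy, herm_smul_left, ← hk, inv_mul_cancel₀ hv0]
    obtain ⟨g, hg, hgf⟩ := hdec y (by rw [hy, herm_smul_left, herm_smul_right, herm_app, he]; ring) hye
    have h := (centre_smul (hCe.map hv) k⁻¹).map (inv_mem hg)
    rwa [← hy, app_inv_eq C hgf] at h
  have hall : ∀ y, herm C y y = 0 → Centre H y := by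
    intro y hy
    by_cases h0 : herm C y (Φ.e 0) = 0
    · have hW : y ∈ Φ.W := Φ.mem_W_of_orth hy fun a ha => by
        induction ha using Submodule.span_induction with
        | mem a ha =>
          obtain ⟨i, hi, rfl⟩ := ha
          rw [Nat.le_zero.1 hi]; exact herm_comm_zero C h0
        | zero => exact herm_zero_left C _
        | add a a' _ _ ha ha' => rw [herm_add_left, ha, ha', add_zero]
        | smul k a _ ha => rw [herm_smul_left, ha, mul_zero]
      have hW1 : Φ.W = Submodule.span F {Φ.e 0} := by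
        rw [W, show Set.Iic (0 : ℕ) = {0} by ext; simp, Set.image_singleton]
      rw [hW1, Submodule.mem_span_singleton] at hW
      obtain ⟨k, rfl⟩ := hW
      exact centre_smul hCe k
    · set k := herm C y (Φ.e 0)
      obtain ⟨g, hg, hgf⟩ := hdec (k⁻¹ • y) (by rw [herm_smul_left, herm_smul_right, hy]; ring)
        (by rw [herm_smul_left, inv_mul_cancel₀ h0])
      have h := centre_smul (hgf ▸ hCf.map hg) k
      rwa [smul_smul, mul_inv_cancel₀ h0, one_smul] at h
  rw [eq_top_iff, ← transvs_eq_top C (ι := ι) hι, transvs, Subgroup.closure_le]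
  rintro g ⟨y, c', hy, hc', hg⟩
  obtain ⟨g', hg', hE⟩ := hall y hy c' hc'
  have e : g = g' := suG_ext C fun z => by
    rw [hg, hE, herm_zero_right, smul_zero, add_zero, sub_zero]
  exact e ▸ hg'

include hb in
/-- The conditions under which `H` is the whole group. -/
theorem eq_top_of_borel (hι : ¬ (Fintype.card ι = 3 ∧ C.q = 2)) {H : Subgroup (suG C ι)}
    {u v : suG C ι} (hu : u ∈ H) (hv : v ∈ H)
    (hue : IsE C u (Φ.e 0) ((1 : F) • (-Φ.x0)) b) (hve : IsE C v (Φ.f 0) ((1 : F) • (-Φ.x0)) b)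
    {c : F} (hc : c ∈ C.skew) (hc0 : c ≠ 0) (hcH : MemE H (Φ.e 0) 0 c) {r d : F}
    (hr : C.σ r ≠ r) (hd : d + C.σ d + r * C.σ r = 0) (hrH : MemE H (Φ.e 0) (r • (-Φ.x0)) d)
    {G : suG C ι} (hG : G ∈ H) {lam η : F} (hlam : C.σ lam = lam)
    (hGe : app C G (Φ.e 0) = lam • Φ.e 0) (hGx : app C G (-Φ.x0) = -Φ.x0 + η • Φ.e 0)
    (hgen : ∀ A : Subring F, lam * lam ∈ A → ∀ w, C.σ w = w → w ∈ A) : H = ⊤ := by
  have he := Φ.e_self (le_refl 0)
  -- all transvections at `e`
  let Tc : F → Prop := fun c' => c' ∈ C.skew ∧ MemE H (Φ.e 0) 0 c'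
  let A : Subring F :=
    { carrier := {τ | C.σ τ = τ ∧ ∀ c', Tc c' → Tc (c' * τ)}
      zero_mem' := ⟨map_zero _, fun c' _ => by rw [mul_zero]; exact ⟨zero_mem _, memE_zero H _⟩⟩
      one_mem' := ⟨map_one _, fun c' h => by rwa [mul_one]⟩
      add_mem' := by
        rintro x y ⟨hx, kx⟩ ⟨hy, ky⟩
        refine ⟨by rw [map_add, hx, hy], fun c' h => ?_⟩
        obtain ⟨h1, h1'⟩ := kx c' h
        obtain ⟨h2, h2'⟩ := ky c' h
        rw [mul_add]
        exact ⟨add_mem h1 h2, (h1'.mul h2' he (herm_zero_left C _) (herm_zero_left C _)).congr rfl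
          (add_zero _) (by rw [herm_zero_left, sub_zero])⟩
      neg_mem' := by
        rintro x ⟨hx, kx⟩
        refine ⟨by rw [map_neg, hx], fun c' h => ?_⟩
        obtain ⟨h1, h1'⟩ := kx c' h
        rw [mul_neg]
        exact ⟨neg_mem h1, (h1'.inv he (herm_zero_left C _)
          (by rw [herm_zero_left, add_zero]; exact h1)).congr rfl neg_zero (C.skew_eq h1)⟩
      mul_mem' := by
        rintro x y ⟨hx, kx⟩ ⟨hy, ky⟩
        refine ⟨fixed_mul hx hy, fun c' h => ?_⟩
        rw [← mul_assoc]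
        exact ky _ (kx c' h) }
  have hA : lam * lam ∈ A := by
    refine ⟨fixed_mul hlam hlam, fun c' ⟨h1, h1'⟩ => ⟨?_, ?_⟩⟩
    · rw [C.mem_skew, map_mul, map_mul, hlam, C.skew_eq h1]; ring
    · have h2 := h1'.conj hG
      rw [hGe, app_zero, memE_smul, hlam, smul_zero] at h2
      exact h2
  have hT : ∀ c' ∈ C.skew, MemE H (Φ.e 0) 0 c' := fun c' hc' => by
    have hx : C.σ (c' / c) = c' / c := by
      rw [map_div₀, C.skew_eq hc', C.skew_eq hc, neg_div_neg_eq]
    have h := ((hgen A hA _ hx).2 c ⟨hc, hcH⟩).2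
    rwa [mul_div_cancel₀ _ hc0] at h
  -- all first coefficients
  let S : F → Prop := fun s =>
    ∃ d', d' + C.σ d' + s * C.σ s = 0 ∧ MemE H (Φ.e 0) (s • (-Φ.x0)) d'
  have hSadd : ∀ {s t}, S s → S t → S (s + t) := by
    rintro s t ⟨d1, hd1, h1⟩ ⟨d2, hd2, h2⟩
    refine ⟨d1 + d2 - t * C.σ s, ?_, (h1.mul h2 he (Φ.smul_xm_e s) (Φ.smul_xm_e t)).congr rfl
      (add_smul s t _).symm (by rw [Φ.herm_smul_xm])⟩
    simp only [map_sub, map_add, map_mul, C.invol]
    linear_combination hd1 + hd2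
  have hSneg : ∀ {s}, S s → S (-s) := by
    rintro s ⟨d1, hd1, h1⟩
    refine ⟨C.σ d1, by rw [C.invol, map_neg]; linear_combination hd1,
      (h1.inv he (Φ.smul_xm_e s) (by rw [Φ.herm_smul_xm]; exact hd1)).congr rfl
        (neg_smul s _).symm rfl⟩
  have hS0 : S 0 := ⟨0, by simp, by rw [zero_smul]; exact memE_zero H _⟩
  let B : Subring F :=
    { carrier := {τ | C.σ τ = τ ∧ ∀ s, S s → S (τ * s)}
      zero_mem' := ⟨map_zero _, fun s _ => by rw [zero_mul]; exact hS0⟩
      one_mem' := ⟨map_one _, fun s h => by rwa [one_mul]⟩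
      add_mem' := by
        rintro x y ⟨hx, kx⟩ ⟨hy, ky⟩
        exact ⟨by rw [map_add, hx, hy], fun s h => by rw [add_mul]; exact hSadd (kx s h) (ky s h)⟩
      neg_mem' := by
        rintro x ⟨hx, kx⟩
        exact ⟨by rw [map_neg, hx], fun s h => by rw [neg_mul]; exact hSneg (kx s h)⟩
      mul_mem' := by
        rintro x y ⟨hx, kx⟩ ⟨hy, ky⟩
        exact ⟨fixed_mul hx hy, fun s h => by rw [mul_assoc]; exact kx _ (ky s h)⟩ }
  have hlamB : lam ∈ B := by
    refine ⟨hlam, fun s ⟨d1, hd1, h1⟩ => ⟨d1 * (lam * lam), ?_, ?_⟩⟩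
    · simp only [map_mul, hlam]
      linear_combination (lam * lam) * hd1
    · have h2 := h1.conj hG
      rw [hGe, app_smul, hGx, memE_smul, hlam] at h2
      set κ := lam * s * η with hκ
      have h3 : MemE H (Φ.e 0) ((-κ) • Φ.e 0) 0 := by
        rw [memE_self, zero_add]; exact hT _ (C.sub_mem _)
      refine (h2.mul h3 he ?_ (by rw [herm_smul_left, he, mul_zero])).congr rfl ?_ ?_
      · rw [herm_smul_left, herm_smul_left, herm_add_left, Φ.xm_e, herm_smul_left, he]; ring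
      · rw [hκ]; module
      · rw [herm_smul_left, herm_smul_right, herm_smul_right, herm_add_right, herm_smul_right,
          herm_comm_zero C Φ.xm_e, he]
        ring
  have hSall : ∀ s, S s := by
    intro s
    have hrr : r - C.σ r ≠ 0 := sub_ne_zero.2 (Ne.symm hr)
    set f₂ := (s - C.σ s) / (r - C.σ r) with hf₂
    have hf2 : C.σ f₂ = f₂ := by
      rw [hf₂, map_div₀, map_sub, map_sub, C.invol, C.invol, ← neg_sub s, ← neg_sub r,
        neg_div_neg_eq]
    have hf1 : C.σ (s - f₂ * r) = s - f₂ * r := by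
      have e : f₂ * (r - C.σ r) = s - C.σ s := div_mul_cancel₀ _ hrr
      rw [map_sub, map_mul, hf2]; linear_combination e
    have hll : lam * lam ∈ B := B.mul_mem hlamB hlamB
    have h1 := (hgen B hll _ hf1).2 1 ⟨b, by rw [map_one, hb]; ring, u, hu, hue⟩
    have h2 := (hgen B hll _ hf2).2 r ⟨d, hd, hrH⟩
    have h := hSadd h1 h2
    rwa [mul_one, sub_add_cancel] at h
  have hU : ∀ s d', d' + C.σ d' + s * C.σ s = 0 → MemE H (Φ.e 0) (s • (-Φ.x0)) d' := by
    intro s d' hd'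
    obtain ⟨d0, hd0, h0⟩ := hSall s
    have hs : d' - d0 ∈ C.skew := by
      rw [C.mem_skew, map_sub]; linear_combination hd' - hd0
    exact (h0.mul (hT _ hs) he (Φ.smul_xm_e s) (herm_zero_left C _)).congr rfl (add_zero _)
      (by rw [herm_zero_left]; ring)
  refine Φ.eq_top_of_unip hι hU hv ?_
  rw [Φ.vec_e, Φ.app_f hve, map_one]
  simp only [one_mul, mul_one, mul_zero, zero_add, add_zero, sub_zero]
  rw [← Φ.vec_e, (Φ.herm_vec _ _ _).1]
  rintro rfl
  simp at hb

end Frame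

/-- Three conjugates of the regular unipotent element generate `SU_3(q)`. -/
theorem generate_three_dim (C : ConjField F) (hq : 3 ≤ C.q) :
    ∃ u g h : suG C (Fin 3), (IsNilpotent (u.1.1 - 1) ∧ (u.1.1 - 1) ^ 2 ≠ 0) ∧
      Subgroup.closure ({u, g * u * g⁻¹, h * u * h⁻¹} : Set (suG C (Fin 3))) = ⊤ := by
  classical
  obtain ⟨Φ⟩ := exists_frame C 0
  -- the parameters
  obtain ⟨b, c, hb, hc, hc0, hkey⟩ : ∃ b c : F, b + C.σ b = -1 ∧ c ∈ C.skew ∧ c ≠ 0 ∧
      ∀ {H : Subgroup (suG C (Fin (2 * 0 + 3)))} {u v : suG C (Fin (2 * 0 + 3))}, u ∈ H → v ∈ H →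
        IsE C u (Φ.e 0) ((1 : F) • (-Φ.x0)) b → IsE C v (Φ.f 0) ((1 : F) • (-Φ.x0)) b →
        MemE H (Φ.e 0) 0 c → ∃ G ∈ H, ∃ lam η : F, C.σ lam = lam ∧
          app C G (Φ.e 0) = lam • Φ.e 0 ∧ app C G (-Φ.x0) = -Φ.x0 + η • Φ.e 0 ∧
          ∀ A : Subring F, lam * lam ∈ A → ∀ w, C.σ w = w → w ∈ A := by
    obtain ⟨a₀, ha₀, ha0⟩ := C.exists_skew_ne
    -- the degenerate case: the fixed field is prime
    have hdeg : ∀ {b : F}, b + C.σ b = -1 →
        (∀ A : Subring F, ∀ w, C.σ w = w → w ∈ A) →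
        ∃ b c : F, b + C.σ b = -1 ∧ c ∈ C.skew ∧ c ≠ 0 ∧
          ∀ {H : Subgroup (suG C (Fin (2 * 0 + 3)))} {u v : suG C (Fin (2 * 0 + 3))}, u ∈ H → v ∈ H →
            IsE C u (Φ.e 0) ((1 : F) • (-Φ.x0)) b → IsE C v (Φ.f 0) ((1 : F) • (-Φ.x0)) b →
            MemE H (Φ.e 0) 0 c → ∃ G ∈ H, ∃ lam η : F, C.σ lam = lam ∧
              app C G (Φ.e 0) = lam • Φ.e 0 ∧ app C G (-Φ.x0) = -Φ.x0 + η • Φ.e 0 ∧
              ∀ A : Subring F, lam * lam ∈ A → ∀ w, C.σ w = w → w ∈ A := fun {b} hb hprime =>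
      ⟨b, a₀, hb, ha₀, ha0, fun _ _ _ _ _ => ⟨1, one_mem _, 1, 0, map_one _,
        by rw [app_one, one_smul], by rw [app_one, zero_smul, add_zero], fun A _ => hprime A⟩⟩
    by_cases h2 : (2 : F) = 0
    · obtain ⟨b, hb1, hgen⟩ := exists_bee C h2
      have hb : b + C.σ b = -1 := by linear_combination hb1 + h2
      set N := b * C.σ b with hN
      have hNf : C.σ N = N := by rw [hN, map_mul, C.invol, mul_comm]
      by_cases hL : 1 - N = 0
      · exact hdeg hb fun A w hw => hgen A (by rw [← sub_eq_zero.1 hL]; exact A.one_mem) w hw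
      have h3 : (3 : F) ≠ 0 := fun h => one_ne_zero (α := F) (by linear_combination h - h2)
      refine ⟨b, (2 * b + 1) / (3 * (1 - N)), hb, ?_, ?_, fun hu hv hue hve hcH => ?_⟩
      · rw [C.mem_skew, map_div₀, map_mul, map_sub, map_one, hNf, map_ofNat, map_add, map_mul,
          map_ofNat, map_one, ← add_div]
        rw [show 2 * b + 1 + (2 * C.σ b + 1) = 0 by linear_combination 2 * hb, zero_div]
      · refine div_ne_zero ?_ (mul_ne_zero h3 hL)
        rw [show 2 * b + 1 = 1 by linear_combination b * h2]; exact one_ne_zero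
      obtain ⟨G, hG, hGe, hGx⟩ := Φ.exists_borel hu hv hue hve hb h3 hL hcH
      refine ⟨G, hG, _, _, ?_, hGe, hGx, fun A hA w hw => hgen A ?_ w hw⟩
      · rw [map_div₀, map_sub, map_one, map_ofNat, ← hN, hNf]
      · have hi := inv_mem_subring A hA
        have h1 : (1 - N) * (1 - N) ∈ A := by
          have e : (3 / (1 - N) * (3 / (1 - N)))⁻¹ = (1 - N) * (1 - N) := by
            rw [show (3 : F) = 1 by linear_combination h2]; field_simp
          rw [← e]; exact hi
        have hN2 : N * N ∈ A := by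
          have e : N * N = (1 - N) * (1 - N) - 1 := by linear_combination N * h2
          rw [e]; exact A.sub_mem h1 A.one_mem
        obtain ⟨j, hj⟩ : ∃ j, C.q = 2 * j := by
          rcases Nat.even_or_odd' C.q with ⟨j, h | h⟩
          · exact ⟨j, h⟩
          exfalso
          have h0 := FiniteField.cast_card_eq_zero F
          rw [C.card, h] at h0
          push_cast at h0
          rw [h2, zero_mul, zero_add, one_pow] at h0
          exact one_ne_zero h0
        rw [← hNf, C.pow, hj, pow_mul, pow_two]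
        exact A.pow_mem hN2 j
    · by_cases h3 : (3 : F) = 0
      · obtain ⟨δ, hδ, hδ0, hgen⟩ := exists_delta C h2 2
        have hb : (δ - 1) / 2 + C.σ ((δ - 1) / 2) = -1 := by
          rw [map_div₀, map_sub, map_one, map_ofNat, hδ]; field_simp; ring
        set b := (δ - 1) / 2 with hbdef
        set N := b * C.σ b with hN
        have hNf : C.σ N = N := by rw [hN, map_mul, C.invol, mul_comm]
        have hN4 : 4 * N = 1 - δ * δ := by
          rw [hN, hbdef, map_div₀, map_sub, map_one, map_ofNat, hδ]; field_simp; ring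
        have h4 : (4 : F) = 1 := by linear_combination h3
        have hL : 1 - N ≠ 0 := by
          intro h
          refine hδ0 (mul_self_eq_zero.1 ?_)
          linear_combination hN4 + 4 * h - h3
        by_cases hP : 1 + N = 0
        · refine hdeg hb fun A w hw => hgen A ?_ w hw
          have e : δ * δ - ((2 : ℤ) : F) = 0 := by
            push_cast; linear_combination hN4 - 4 * hP + h3
          rw [e, mul_zero]; exact A.zero_mem
        have hM : 1 - 3 * N - N ^ 2 = (1 - N) * (1 + N) := by linear_combination -N * h3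
        have hM0 : 1 - 3 * N - N ^ 2 ≠ 0 := by rw [hM]; exact mul_ne_zero hL hP
        refine ⟨b, (2 * b + 1) / ((1 - 3 * N - N ^ 2) * (1 - N)), hb, ?_, ?_,
          fun hu hv hue hve hcH => ?_⟩
        · rw [C.mem_skew, map_div₀, map_mul, map_sub, map_sub, map_sub, map_one, map_mul, map_pow,
            hNf, map_ofNat, map_add, map_mul, map_ofNat, map_one, ← add_div]
          rw [show 2 * b + 1 + (2 * C.σ b + 1) = 0 by linear_combination 2 * hb, zero_div]
        · refine div_ne_zero ?_ (mul_ne_zero hM0 hL)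
          rw [hbdef, mul_div_cancel₀ _ h2, sub_add_cancel]; exact hδ0
        obtain ⟨G, hG, hGe, hGx⟩ := Φ.exists_borel_two hu hv hue hve hb hL hM0 hcH
        refine ⟨G, hG, _, _, ?_, hGe, hGx, fun A hA w hw => hgen A ?_ w hw⟩
        · simp only [← hN, map_div₀, map_sub, map_one, map_mul, map_pow, map_ofNat, hNf]
        · have hi := inv_mem_subring A hA
          have e1 : ((1 - N) / (1 - 3 * N - N ^ 2) * ((1 - N) / (1 - 3 * N - N ^ 2)))⁻¹ =
              (1 + N) * (1 + N) := by rw [hM]; field_simp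
          have e2 : δ * δ - ((2 : ℤ) : F) = -(1 + N) := by
            push_cast; linear_combination hN4 - N * h4
          rw [e2, neg_mul_neg, ← e1]
          exact hi
      · obtain ⟨δ, hδ, hδ0, hgen⟩ := exists_delta C h2 (-3)
        have hb : (δ - 1) / 2 + C.σ ((δ - 1) / 2) = -1 := by
          rw [map_div₀, map_sub, map_one, map_ofNat, hδ]; field_simp; ring
        set b := (δ - 1) / 2 with hbdef
        set N := b * C.σ b with hN
        have hNf : C.σ N = N := by rw [hN, map_mul, C.invol, mul_comm]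
        have hN4 : 4 * N = 1 - δ * δ := by
          rw [hN, hbdef, map_div₀, map_sub, map_one, map_ofNat, hδ]; field_simp; ring
        have e2 : δ * δ - ((-3 : ℤ) : F) = 4 * (1 - N) := by
          push_cast; linear_combination hN4
        by_cases hL : 1 - N = 0
        · refine hdeg hb fun A w hw => hgen A ?_ w hw
          rw [e2, hL, mul_zero, mul_zero]; exact A.zero_mem
        refine ⟨b, (2 * b + 1) / (3 * (1 - N)), hb, ?_, ?_, fun hu hv hue hve hcH => ?_⟩
        · rw [C.mem_skew, map_div₀, map_mul, map_sub, map_one, hNf, map_ofNat, map_add, map_mul,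
            map_ofNat, map_one, ← add_div]
          rw [show 2 * b + 1 + (2 * C.σ b + 1) = 0 by linear_combination 2 * hb, zero_div]
        · refine div_ne_zero ?_ (mul_ne_zero h3 hL)
          rw [hbdef, mul_div_cancel₀ _ h2, sub_add_cancel]; exact hδ0
        obtain ⟨G, hG, hGe, hGx⟩ := Φ.exists_borel hu hv hue hve hb h3 hL hcH
        refine ⟨G, hG, _, _, ?_, hGe, hGx, fun A hA w hw => hgen A ?_ w hw⟩
        · rw [← hN, map_div₀, map_sub, map_one, map_ofNat, hNf]
        · have hi := inv_mem_subring A hA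
          have e1 : 4 * (1 - N) * (4 * (1 - N)) =
              ((144 : ℕ) : F) * (3 / (1 - N) * (3 / (1 - N)))⁻¹ := by
            push_cast; field_simp; ring
          rw [e2, e1]
          exact A.mul_mem (natCast_mem A 144) hi
  -- the torus element
  obtain ⟨α₀, hα₀⟩ : ∃ α : F, C.σ (C.σ α * C.σ α / α) ≠ C.σ α * C.σ α / α := by
    by_contra hh
    push Not at hh
    obtain ⟨γ, hgen, -⟩ := exists_gen C
    have h := hh (γ : F)
    have hγ : (γ : F) ≠ 0 := γ.ne_zero
    rw [map_div₀, map_mul, C.invol, div_eq_div_iff ((map_ne_zero C.σ).2 hγ) hγ] at h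
    have hcube : ∀ z : F, C.σ z ^ 3 = z ^ 3 := by
      intro z
      by_cases hz : z = 0
      · simp [hz]
      obtain ⟨k, rfl⟩ := hgen z hz
      rw [map_pow, ← pow_mul, ← pow_mul, mul_comm k 3, pow_mul, pow_mul,
        show C.σ (γ : F) ^ 3 = (γ : F) ^ 3 by linear_combination -h]
    -- every cube of a unit is fixed, so the group of norm-one elements has exponent three
    have hpow : γ ^ ((C.q - 1) * 3) = 1 := by
      refine Units.ext ?_
      rw [Units.val_pow_eq_pow_val, Units.val_one, pow_mul]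
      have e : (γ : F) ^ (C.q - 1) = C.σ (γ : F) * (γ : F)⁻¹ := by
        rw [C.pow, eq_mul_inv_iff_mul_eq₀ hγ, ← pow_succ, Nat.sub_add_cancel (by omega)]
      rw [e, mul_pow, hcube, ← mul_pow, mul_inv_cancel₀ hγ, one_pow]
    have hord : orderOf γ = C.q ^ 2 - 1 := by
      rw [orderOf_eq_card_of_forall_mem_zpowers
        (fun z => by
          obtain ⟨j, hj⟩ := hgen (z : F) z.ne_zero
          exact ⟨j, Units.ext (by simpa using hj.symm)⟩), Nat.card_units, Nat.card_eq_fintype_card,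
        C.card]
    have hdvd := orderOf_dvd_of_pow_eq_one hpow
    rw [hord] at hdvd
    have hle := Nat.le_of_dvd (by omega) hdvd
    obtain ⟨d, hd⟩ : ∃ d, C.q = d + 3 := ⟨C.q - 3, by omega⟩
    rw [hd, show (d + 3) ^ 2 - 1 = d * d + 6 * d + 8 by
      rw [show (d + 3) ^ 2 = d * d + 6 * d + 8 + 1 by ring, Nat.add_sub_cancel],
      show d + 3 - 1 = d + 2 by omega] at hle
    nlinarith
  have hα₀0 : α₀ ≠ 0 := by rintro rfl; simp at hα₀
  set r₀ := C.σ α₀ * C.σ α₀ / α₀ with hr₀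
  set s := c / (C.σ r₀ - r₀) with hs
  have hs0 : s ≠ 0 := div_ne_zero hc0 (sub_ne_zero.2 hα₀)
  have hsf : C.σ s = s := by
    rw [hs, map_div₀, map_sub, C.invol, C.skew_eq hc, ← neg_sub (C.σ r₀), neg_div_neg_eq]
  set α := s * α₀ with hα
  have hα0 : α ≠ 0 := mul_ne_zero hs0 hα₀0
  have hσα : C.σ α ≠ 0 := (map_ne_zero C.σ).2 hα0
  set r := C.σ α * C.σ α / α with hr
  have hrs : r = s * r₀ := by
    rw [hr, hα, hr₀, map_mul, hsf]; field_simp
  obtain ⟨k, hke, hkx, hkf⟩ := Φ.exists_monomial (d := (-1 : F)) (by simp)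
  rw [map_neg, map_one] at hke hkx
  obtain ⟨n, hne, hnx, -⟩ := Φ.exists_monomial (d := -(C.σ α)⁻¹) (neg_ne_zero.2 (inv_ne_zero hσα))
  set t := k⁻¹ * n with ht
  have hkif : app C k⁻¹ (Φ.f 0) = (-1 : F) • Φ.e 0 := by
    refine app_inv_eq C ?_
    rw [app_smul, hke, smul_smul]; norm_num
  have hkix : app C k⁻¹ (-Φ.x0) = (-1 : F) • (-Φ.x0) := by
    refine app_inv_eq C ?_
    rw [app_smul, hkx, smul_smul]; norm_num
  have hte : app C t (Φ.e 0) = α • Φ.e 0 := by
    rw [ht, app_mul, hne, app_smul, hkif, smul_smul, map_neg, map_inv₀, C.invol]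
    congr 1; field_simp
  have htx : app C t (-Φ.x0) = (C.σ α / α) • (-Φ.x0) := by
    rw [ht, app_mul, hnx, app_smul, hkix, smul_smul, map_neg, map_inv₀, C.invol]
    congr 1; field_simp
  set u := Φ.reg b with hu_def
  have hue : IsE C u (Φ.e 0) ((1 : F) • (-Φ.x0)) b := Φ.isE_reg hb
  refine ⟨u, k, t, ⟨Φ.isNilpotent_nil hb, Φ.nil_pow_ne_zero hb⟩, ?_⟩
  set H := Subgroup.closure ({u, k * u * k⁻¹, t * u * t⁻¹} : Set (suG C (Fin (2 * 0 + 3))))
  have hu : u ∈ H := Subgroup.subset_closure (Or.inl rfl)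
  have hv : k * u * k⁻¹ ∈ H := Subgroup.subset_closure (Or.inr (Or.inl rfl))
  have hw : t * u * t⁻¹ ∈ H := Subgroup.subset_closure (Or.inr (Or.inr rfl))
  have hve : IsE C (k * u * k⁻¹) (Φ.f 0) ((1 : F) • (-Φ.x0)) b := by
    have h := hue.conj k
    rw [hke, app_smul, hkx, isE_smul] at h
    simpa using h
  have hwe : IsE C (t * u * t⁻¹) (Φ.e 0) (r • (-Φ.x0)) (b * (α * C.σ α)) := by
    have h := hue.conj t
    rw [hte, app_smul, htx, isE_smul, smul_smul, smul_smul] at h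
    rwa [mul_one, ← mul_div_assoc, ← hr] at h
  have hrval : b * (α * C.σ α) + C.σ (b * (α * C.σ α)) + r * C.σ r = 0 := by
    have key : ∀ a : F, a ≠ 0 → b * (a * C.σ a) + C.σ (b * (a * C.σ a)) +
        C.σ a * C.σ a / a * C.σ (C.σ a * C.σ a / a) = 0 := fun a ha => by
      have ha' : C.σ a ≠ 0 := (map_ne_zero C.σ).2 ha
      rw [map_div₀, map_mul, map_mul, map_mul, C.invol]
      field_simp
      linear_combination (a * C.σ a) * hb
    exact key α hα0
  have hrne : C.σ r ≠ r := by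
    rw [hrs, map_mul, hsf]
    exact fun h => hα₀ (mul_left_cancel₀ hs0 h)
  have he := Φ.e_self (le_refl 0)
  have hcH : MemE H (Φ.e 0) 0 c := by
    have hu1 : MemE H (Φ.e 0) ((1 : F) • (-Φ.x0)) b := ⟨u, hu, hue⟩
    have hw1 : MemE H (Φ.e 0) (r • (-Φ.x0)) (b * (α * C.σ α)) := ⟨_, hw, hwe⟩
    have h1 := hu1.mul hw1 he (Φ.smul_xm_e _) (Φ.smul_xm_e _)
    have h2 := hw1.mul hu1 he (Φ.smul_xm_e _) (Φ.smul_xm_e _)
    rw [← add_smul, Φ.herm_smul_xm] at h1 h2
    have hval : b * (α * C.σ α) + b - 1 * C.σ r +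
        C.σ (b * (α * C.σ α) + b - 1 * C.σ r) + (r + 1) * C.σ (r + 1) = 0 := by
      simp only [map_sub, map_add, map_mul, map_one, C.invol]
      have h := hrval
      simp only [map_mul, C.invol] at h
      linear_combination h + hb
    have h3 := h2.inv he (Φ.smul_xm_e _) (by rw [Φ.herm_smul_xm]; exact hval)
    refine (h1.mul h3 he (Φ.smul_xm_e _) (by rw [herm_neg_left, Φ.smul_xm_e, neg_zero])).congr rfl
      ?_ ?_
    · rw [add_comm r 1]; abel
    · rw [← neg_smul, Φ.herm_smul_xm]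
      simp only [map_sub, map_add, map_mul, map_one, C.invol]
      have h := hrval
      simp only [map_mul, C.invol] at h
      have e : c = s * (C.σ r₀ - r₀) := by rw [hs, div_mul_cancel₀ _ (sub_ne_zero.2 hα₀)]
      have e2 : C.σ r = s * C.σ r₀ := by rw [hrs, map_mul, hsf]
      linear_combination h + hb - e + e2 - hrs
  obtain ⟨G, hG, lam, η, hlam, hGe, hGx, hgen⟩ := hkey hu hv hue hve hcH
  exact Φ.eq_top_of_borel hb (by rintro ⟨-, h⟩; omega) hu hv hue hve hc hc0 hcH hrne hrval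
    ⟨_, hw, hwe⟩ hG hlam hGe hGx hgen

end CfsgLib.SUThreeUnipotent
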