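import Cfsg.Agent.SUThreeUnipotent.Frame

/-!
# The root groups inside the totally isotropic space

Data: a chain `e_0, …, e_l`, an element `u` with `u e_{i+1} = e_{i+1} + e_i`, an element `κ` with
`κ e_i = e_{i+1}`, and one Eichler element `E(e_0, r₀ e_l)`. Then every `E(e_i, r e_j)` and every transvection at
`e_i` lies in `H`.
-/

set_option autoImplicit false

namespace CfsgLib.SUThreeUnipotent

open Matrix CfsgLib.RepBounds.Unit

variable {F : Type*} [Field F] [Fintype F] {C : ConjField F} {ι : Type*} [Fintype ι] [DecidableEq ι]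

/-- The hypotheses of the engine. -/
structure Chain (H : Subgroup (suG C ι)) (l : ℕ) (e : ℕ → ι → F) (u κ : suG C ι) : Prop where
  hl : 1 ≤ l
  ee : ∀ i j, i ≤ l → j ≤ l → herm C (e i) (e j) = 0
  hu : u ∈ H
  hk : κ ∈ H
  u0 : app C u (e 0) = e 0
  us : ∀ i, i < l → app C u (e (i + 1)) = e (i + 1) + e i
  ks : ∀ i, i < l → app C κ (e i) = e (i + 1)

variable {H : Subgroup (suG C ι)} {l : ℕ} {e : ℕ → ι → F} {u κ : suG C ι}

namespace Chain

variable (hH : Chain H l e u κ)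

include hH in
theorem hee {i j : ℕ} (hi : i ≤ l) (hj : j ≤ l) (r : F) : herm C (r • e i) (e j) = 0 := by
  rw [herm_smul_left, hH.ee i j hi hj, mul_zero]

include hH in
theorem hee' {i j : ℕ} (hi : i ≤ l) (hj : j ≤ l) (r s : F) : herm C (r • e i) (s • e j) = 0 := by
  rw [herm_smul_left, herm_smul_right, hH.ee i j hi hj, mul_zero, mul_zero]

include hH in
/-- Shift a transvection along the chain. -/
theorem transv_all {c : F} (h : MemE H (e 1) 0 c) : ∀ i, i ≤ l → MemE H (e i) 0 c := by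
  have h0 : MemE H (e 0) 0 c :=
    (h.conj (inv_mem hH.hk)).congr (app_inv_eq C (hH.ks 0 hH.hl)) (app_zero C _) rfl
  intro i
  induction i with
  | zero => intro _; exact h0
  | succ i ih => intro hi; exact ((ih (by omega)).conj hH.hk).congr (hH.ks i hi) (app_zero C _) rfl

include hH in
theorem pair_shift {r : F} {i j : ℕ} (h : MemE H (e i) (r • e j) 0) :
    ∀ d, i + d ≤ l → j + d ≤ l → MemE H (e (i + d)) (r • e (j + d)) 0 := by
  intro d
  induction d with
  | zero => intro _ _; exact h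
  | succ d ih =>
    intro hi hj
    refine ((ih (by omega) (by omega)).conj hH.hk).congr (hH.ks _ (by omega)) ?_ rfl
    rw [app_smul, hH.ks _ (by omega), add_assoc]

include hH in
/-- Descend from `e_l`. -/
theorem pair_down {r : F} (h : MemE H (e 0) (r • e l) 0) :
    ∀ j, 1 ≤ j → j ≤ l → MemE H (e 0) (r • e j) 0 := by
  intro j hj hjl
  induction hjl using Nat.decreasingInduction with
  | self => exact h
  | of_succ j hjl ih =>
    have hjl' : j < l := hjl
    have h' := ih (by omega)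
    have h1 : MemE H (e 0) (r • e (j + 1) + r • e j) 0 :=
      (h'.conj hH.hu).congr hH.u0 (by rw [app_smul, hH.us j hjl', smul_add]) rfl
    exact h'.cancel h1 (hH.ee 0 0 (by omega) (by omega)) (hH.hee (by omega) (by omega) r)
      (hH.hee (by omega) (by omega) r) (hH.hee' (by omega) (by omega) r r)
      (hH.hee' (by omega) (by omega) r r)

include hH in
/-- Ascend from `e_1`. -/
theorem pair_up {r : F} (h : MemE H (e 0) (r • e 1) 0) (hT : MemE H (e 1) 0 (r - C.σ r)) :
    ∀ j, 1 ≤ j → j ≤ l → MemE H (e 0) (r • e j) 0 := by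
  intro j
  induction j using Nat.strong_induction_on with
  | _ j ih =>
  intro hj hjl
  rcases (show j = 1 ∨ 2 ≤ j by omega) with rfl | hj2
  · exact h
  obtain ⟨i, rfl⟩ : ∃ i, j = i + 2 := ⟨j - 2, by omega⟩
  have hprev := ih (i + 1) (by omega) (by omega) (by omega)
  have h1 : MemE H (e 1) (r • e (i + 2)) 0 := by
    have := hH.pair_shift hprev 1 (by omega) (by omega)
    simpa using this
  -- the neighbour
  have h1' : MemE H (e 1) (r • e (i + 1)) 0 := by
    rcases Nat.eq_zero_or_pos i with rfl | hi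
    · rw [memE_self, zero_add]; exact hT
    · have := hH.pair_shift (ih i (by omega) hi (by omega)) 1 (by omega) (by omega)
      simpa using this
  have h2 : MemE H (e 1) (r • e (i + 1) + r • e (i + 2)) 0 :=
    h1'.add h1 (hH.ee 1 1 (by omega) (by omega)) (hH.hee (by omega) (by omega) r)
      (hH.hee (by omega) (by omega) r) (hH.hee' (by omega) (by omega) r r)
  have h3 : MemE H (e 1 + e 0) (r • e (i + 1) + r • e (i + 2)) 0 :=
    (h1.conj hH.hu).congr (hH.us 0 (by omega))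
      (by rw [app_smul, hH.us (i + 1) (by omega), smul_add, add_comm]) rfl
  have hz : ∀ a, a ≤ l → ∀ b, b ≤ l → ∀ c, c ≤ l →
      herm C (e a) (r • e b + r • e c) = 0 := fun a ha b hb c hc => by
    rw [herm_add_right, herm_smul_right, herm_smul_right, hH.ee a b ha hb, hH.ee a c ha hc]; ring
  have h4 : MemE H (e 0) (r • e (i + 1) + r • e (i + 2)) 0 :=
    h2.cancel_left h3 (by
        rw [herm_add_left, herm_smul_left, herm_smul_left, hz _ (by omega) _ (by omega) _ (by omega),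
          hz _ (by omega) _ (by omega) _ (by omega)]; ring)
      (hz _ (by omega) _ (by omega) _ (by omega)) (hz _ (by omega) _ (by omega) _ (by omega))
      (hH.ee 0 1 (by omega) (by omega)) (hH.ee 1 1 (by omega) (by omega))
  exact hprev.cancel h4 (hH.ee 0 0 (by omega) (by omega)) (hH.hee (by omega) (by omega) r)
    (hH.hee (by omega) (by omega) r) (hH.hee' (by omega) (by omega) r r)
    (hH.hee' (by omega) (by omega) r r)

include hH in
theorem psi_iso : herm C (app C κ (e l)) (app C κ (e l)) = 0 := by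
  rw [herm_app, hH.ee l l le_rfl le_rfl]

include hH in
theorem psi_orth {j : ℕ} (hj : 1 ≤ j) (hjl : j ≤ l) : herm C (app C κ (e l)) (e j) = 0 := by
  obtain ⟨i, rfl⟩ : ∃ i, j = i + 1 := ⟨j - 1, by omega⟩
  rw [← hH.ks i (by omega), herm_app, hH.ee l i le_rfl (by omega)]

variable {ρ : F} (hρ : herm C (app C κ (e l)) (e 0) = ρ)

include hH hρ in
/-- Two coefficients produce a transvection. -/
theorem transv_of_pairs {r s : F} (hr : MemE H (e 0) (r • e l) 0)
    (hs : MemE H (e 0) (s • e 1) 0) : MemE H (e 1) 0 (r * s * ρ - C.σ (r * s * ρ)) := by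
  have hl := hH.hl
  set ψ := app C κ (e l) with hψ
  obtain ⟨g, hg, hgE⟩ := hs
  have hW : MemE H (e 1) (r • ψ) 0 :=
    (hr.conj hH.hk).congr (hH.ks 0 (by omega)) (app_smul C _ _ _) rfl
  have hge : app C g (e 1) = e 1 := by
    rw [hgE, hH.ee 1 0 (by omega) (by omega), herm_smul_right, hH.ee 1 1 (by omega) (by omega)]
    simp
  have hgψ : app C g (r • ψ) = r • ψ + (r * s * ρ) • e 1 := by
    rw [app_smul, hgE, hρ, herm_smul_right, hH.psi_orth le_rfl hl]
    module
  have hψ1 : herm C (r • ψ) (e 1) = 0 := by rw [herm_smul_left, hH.psi_orth le_rfl hl, mul_zero]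
  have hψψ : herm C (r • ψ) (r • ψ) = 0 := by
    rw [herm_smul_left, herm_smul_right, hH.psi_iso, mul_zero, mul_zero]
  have h1 : MemE H (e 1) (r • ψ + (r * s * ρ) • e 1) 0 := (hW.conj hg).congr hge hgψ rfl
  have h2 := hW.cancel h1 (hH.ee 1 1 (by omega) (by omega)) hψ1
    (hH.hee (by omega) (by omega) _) (by rw [herm_smul_left, herm_smul_right,
      herm_comm_zero C (hH.psi_orth le_rfl hl), mul_zero, mul_zero]) hψψ
  rw [memE_self, zero_add] at h2
  exact h2

include hH hρ in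
/-- A coefficient and a transvection produce a transvection at `e_0 + μ e_1`. -/
theorem transv_moved {r c : F} (hr : MemE H (e 0) (r • e l) 0) (hc : MemE H (e 0) 0 c) :
    MemE H (e 0 + (-C.σ (r * ρ)) • e 1) 0 c := by
  have hl := hH.hl
  obtain ⟨g, hg, hgE⟩ := (hr.conj hH.hk).congr (hH.ks 0 (by omega)) (app_smul C _ _ _) rfl
  refine (hc.conj hg).congr ?_ (app_zero C _) rfl
  rw [hgE, hH.ee 0 1 (by omega) (by omega), herm_smul_right, ← conj_herm C (app C κ (e l)) (e 0),
    hρ, map_mul]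
  module

/-- The coefficients of `E(e_0, · e_l)` in `H`. -/
def Coeff (H : Subgroup (suG C ι)) (e : ℕ → ι → F) (l : ℕ) (r : F) : Prop :=
  MemE H (e 0) (r • e l) 0

include hH in
theorem coeff_add {r s : F} (hr : Coeff H e l r) (hs : Coeff H e l s) : Coeff H e l (r + s) := by
  refine ((hr : MemE H (e 0) (r • e l) 0).add hs (hH.ee 0 0 (Nat.zero_le l) (Nat.zero_le l))
    (hH.hee le_rfl (Nat.zero_le l) r) (hH.hee le_rfl (Nat.zero_le l) s)
    (hH.hee' le_rfl le_rfl s r)).congr rfl (add_smul r s _).symm rfl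

include hH in
theorem pair_of_transv {c : F} (hc : c ∈ C.skew) (h : MemE H (e 1) 0 c) :
    MemE H (e 0) (c • e 1) 0 := by
  have hl := hH.hl
  refine memE_of_sum hc (hH.ee 0 0 (by omega) (by omega)) (hH.ee 1 1 (by omega) (by omega))
    (hH.ee 0 1 (by omega) (by omega)) ?_ (hH.transv_all h 0 (by omega)) h
  exact (h.conj hH.hu).congr (by rw [hH.us 0 (by omega), add_comm]) (app_zero C _) rfl

include hH in
theorem coeff_of_transv {c : F} (hc : c ∈ C.skew) (h : MemE H (e 1) 0 c) : Coeff H e l c := by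
  refine hH.pair_up (hH.pair_of_transv hc h) ?_ l hH.hl le_rfl
  rw [C.skew_eq hc, sub_neg_eq_add]
  exact (h.mul h (hH.ee 1 1 hH.hl hH.hl) (herm_zero_left C _) (herm_zero_left C _)).congr rfl
    (add_zero _) (by rw [herm_zero_left]; ring)

include hH hρ in
/-- Multipliers of the transvection coefficients. -/
theorem mult_mem {r s c : F} (hr : Coeff H e l r) (hs : Coeff H e l s) (hc : c ∈ C.skew)
    (h : MemE H (e 1) 0 c) :
    MemE H (e 1) 0 (c * (ρ * C.σ ρ * (r * C.σ s + s * C.σ r))) := by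
  have hl := hH.hl
  have h0 := hH.transv_all h 0 (by omega)
  refine (memE_quadratic hc (hH.ee 0 0 (by omega) (by omega)) (hH.ee 1 1 (by omega) (by omega))
    (hH.ee 0 1 (by omega) (by omega)) h0 (hH.transv_moved hρ hr h0) (hH.transv_moved hρ hs h0)
    ((hH.transv_moved hρ (hH.coeff_add hr hs) h0).congr ?_ rfl rfl)).congr rfl rfl ?_
  · rw [add_mul, map_add, neg_add]
  · simp only [map_neg, C.invol, map_mul]
    ring

end Chain

/-! ### Scalars -/

theorem fixed_mul {x y : F} (hx : C.σ x = x) (hy : C.σ y = y) : C.σ (x * y) = x * y := by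
  rw [map_mul, hx, hy]

/-- A generator of the fixed units. -/
theorem exists_gen (C : ConjField F) : ∃ (γ : Fˣ), (∀ z : F, z ≠ 0 → ∃ k : ℕ, z = (γ : F) ^ k) ∧
    ∀ z : F, C.σ z = z → z ≠ 0 → ∃ k : ℕ, z = ((γ : F) * C.σ γ) ^ k := by
  obtain ⟨γ, hγ⟩ := IsCyclic.exists_generator (α := Fˣ)
  have hgen : ∀ z : F, z ≠ 0 → ∃ k : ℕ, z = (γ : F) ^ k := fun t ht => by
    obtain ⟨k, hk⟩ := mem_powers_iff_mem_zpowers.2 (hγ (Units.mk0 t ht))
    exact ⟨k, by simpa using (congrArg Units.val hk).symm⟩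
  refine ⟨γ, hgen, fun z hz hz0 => ?_⟩
  obtain ⟨y, hy⟩ := CfsgLib.Forms.exists_mul_involution_eq C.ne_id C.invol hz
  obtain ⟨k, rfl⟩ := hgen y (by rintro rfl; rw [zero_mul] at hy; exact hz0 hy.symm)
  exact ⟨k, by rw [← hy, mul_pow, map_pow]⟩

/-- The starting coefficient. -/
theorem exists_start (C : ConjField F) {ρ : F} (hρ : ρ + C.σ ρ ≠ 0) :
    ∃ r : F, r * r * ρ - C.σ (r * r * ρ) ≠ 0 ∧
      ∀ K : F → Prop, K 0 → K 1 → (∀ x y, K x → K y → K (x + y)) →
        (∀ x y, K x → K y → K (x * y)) → K (-1) →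
        K (2 * (ρ * C.σ ρ) * (r * C.σ r)) →
        K (ρ * C.σ ρ * (r * C.σ (r * r * ρ - C.σ (r * r * ρ)) +
          (r * r * ρ - C.σ (r * r * ρ)) * C.σ r)) →
        ∀ x, C.σ x = x → K x := by
  obtain ⟨γ, hgen, hfix⟩ := exists_gen C
  set g : F := (γ : F) * C.σ γ with hg
  have hgf : C.σ g = g := by rw [hg, map_mul, C.invol, mul_comm]
  have hg0 : g ≠ 0 := mul_ne_zero γ.ne_zero ((map_ne_zero C.σ).2 γ.ne_zero)
  have hρ0 : ρ ≠ 0 := by rintro rfl; simp at hρ
  have hN0 : ρ * C.σ ρ ≠ 0 := mul_ne_zero hρ0 ((map_ne_zero C.σ).2 hρ0)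
  have hNf : C.σ (ρ * C.σ ρ) = ρ * C.σ ρ := by rw [map_mul, C.invol, mul_comm]
  have hall : ∀ K : F → Prop, K 0 → K 1 → (∀ x y, K x → K y → K (x * y)) → K g →
      ∀ x, C.σ x = x → K x := by
    intro K k0 k1 km kg x hx
    by_cases hx0 : x = 0
    · rw [hx0]; exact k0
    obtain ⟨k, rfl⟩ := hfix x hx hx0
    clear hx hx0
    induction k with
    | zero => rw [pow_zero]; exact k1
    | succ k ih => rw [pow_succ]; exact km _ _ ih kg
  by_cases h2 : (2 : F) = 0
  · -- characteristic two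
    set T := ρ + C.σ ρ with hT
    have hTf : C.σ T = T := by rw [hT, map_add, C.invol, add_comm]
    have hneg : ∀ a : F, -a = a := fun a => by linear_combination -a * h2
    set W := g * (ρ * C.σ ρ * T * T)⁻¹ + T * T + ρ * C.σ ρ with hW
    have hWf : C.σ W = W := by simp only [hW, map_add, map_mul, map_inv₀, hgf, hTf, C.invol]; ring
    have hch : ringChar F = 2 := by
      rcases (Nat.dvd_prime Nat.prime_two).1
        (ringChar.dvd (R := F) (x := 2) (by exact_mod_cast h2)) with h | h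
      · exact absurd h (CharP.ringChar_ne_one)
      · exact h
    obtain ⟨X, hX⟩ := FiniteField.isSquare_of_char_two hch W
    have hXf : C.σ X = X := by
      have h1 : (C.σ X - X) * (C.σ X - X) = 0 := by
        have h3 : C.σ X * C.σ X = X * X := by rw [← map_mul, ← hX, hWf]
        linear_combination h3 + X * (X - C.σ X) * h2
      exact sub_eq_zero.1 (mul_self_eq_zero.1 h1)
    have hval : ρ * C.σ ρ * ((X + ρ) * C.σ ((X + ρ) * (X + ρ) * ρ - C.σ ((X + ρ) * (X + ρ) * ρ)) +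
        ((X + ρ) * (X + ρ) * ρ - C.σ ((X + ρ) * (X + ρ) * ρ)) * C.σ (X + ρ)) = g := by
      have e1 : ρ * C.σ ρ * T * T * W = g + ρ * C.σ ρ * T * T * (T * T + ρ * C.σ ρ) := by
        have hne : ρ * C.σ ρ * T * T ≠ 0 := mul_ne_zero (mul_ne_zero hN0 hρ) hρ
        rw [hW]
        linear_combination g * mul_inv_cancel₀ hne
      have e2 : ρ * C.σ ρ * ((X + ρ) * C.σ ((X + ρ) * (X + ρ) * ρ - C.σ ((X + ρ) * (X + ρ) * ρ)) +
          ((X + ρ) * (X + ρ) * ρ - C.σ ((X + ρ) * (X + ρ) * ρ)) * C.σ (X + ρ)) =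
          ρ * C.σ ρ * ((2 * X + T) * (X * X * T + (T * T * T + ρ * C.σ ρ * T))) := by
        simp only [map_mul, map_add, map_sub, C.invol, hXf, sub_eq_add_neg, hneg, hT]
        ring_nf
        linear_combination (2 * ρ * C.σ ρ ^ 3 * X ^ 2 + ρ * C.σ ρ ^ 4 * X -
          3 * ρ ^ 2 * C.σ ρ ^ 3 * X - 2 * ρ ^ 2 * C.σ ρ ^ 4 + 2 * ρ ^ 3 * C.σ ρ * X ^ 2 -
          3 * ρ ^ 3 * C.σ ρ ^ 2 * X - 4 * ρ ^ 3 * C.σ ρ ^ 3 + ρ ^ 4 * C.σ ρ * X -
          2 * ρ ^ 4 * C.σ ρ ^ 2) * h2
      clear_value W T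
      rw [e2]
      subst hX
      linear_combination e1 + (ρ * C.σ ρ * (X * (X * X * T + (T * T * T + ρ * C.σ ρ * T))) +
        ρ * C.σ ρ * T * T * (T * T + ρ * C.σ ρ)) * h2
    refine ⟨X + ρ, fun h => hg0 ?_, fun K k0 k1 _ km _ _ kτ => hall K k0 k1 km (by rwa [hval] at kτ)⟩
    rw [← hval, h]; simp
  by_cases hq : C.q = 3
  · -- three elements
    obtain ⟨r, hr⟩ : ∃ r : F, r * r * ρ - C.σ (r * r * ρ) ≠ 0 := by
      by_contra hh
      push Not at hh
      refine C.ne_id (RingHom.ext fun x => ?_)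
      have h1 := hh 1
      have hx1 := hh x
      have hx2 := hh (x + 1)
      simp only [map_mul, map_add, map_one, one_mul] at h1 hx1 hx2
      have : (2 * ρ) * (x - C.σ x) = 0 := by
        linear_combination hx2 - hx1 - h1 - 2 * C.σ x * h1
      rcases mul_eq_zero.1 this with h | h
      · exact absurd h (mul_ne_zero h2 hρ0)
      · exact (sub_eq_zero.1 h).symm
    refine ⟨r, hr, fun K k0 k1 _ _ kn _ _ x hx => ?_⟩
    rw [C.pow, hq] at hx
    have h3 : x * ((x - 1) * (x + 1)) = 0 := by linear_combination hx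
    rcases mul_eq_zero.1 h3 with h | h
    · rw [h]; exact k0
    rcases mul_eq_zero.1 h with h | h
    · rw [sub_eq_zero.1 h]; exact k1
    · rw [eq_neg_of_add_eq_zero_left h]; exact kn
  · -- odd, at least five
    have htarget : C.σ (g * (2 * (ρ * C.σ ρ))⁻¹) = g * (2 * (ρ * C.σ ρ))⁻¹ := by
      simp only [map_mul, map_inv₀, map_ofNat, hgf, C.invol]; ring
    obtain ⟨r₀, hr₀⟩ := CfsgLib.Forms.exists_mul_involution_eq C.ne_id C.invol htarget
    have hr₀0 : r₀ ≠ 0 := by
      rintro rfl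
      rw [zero_mul, eq_comm, mul_eq_zero, inv_eq_zero] at hr₀
      exact hr₀.elim hg0 (mul_ne_zero h2 hN0)
    have hval : ∀ r, r * C.σ r = r₀ * C.σ r₀ → 2 * (ρ * C.σ ρ) * (r * C.σ r) = g := fun r hr => by
      rw [hr, hr₀, mul_comm g, mul_inv_cancel_left₀ (mul_ne_zero h2 hN0)]
    suffices h : ∃ r, r * C.σ r = r₀ * C.σ r₀ ∧ r * r * ρ - C.σ (r * r * ρ) ≠ 0 by
      obtain ⟨r, hr, hr'⟩ := h
      exact ⟨r, hr', fun K k0 k1 _ km _ kτ _ => hall K k0 k1 km (by rwa [hval r hr] at kτ)⟩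
    by_cases h1 : r₀ * r₀ * ρ - C.σ (r₀ * r₀ * ρ) = 0
    · set ζ : F := C.σ γ * (γ : F)⁻¹ with hζ
      have hγ0 : (γ : F) ≠ 0 := γ.ne_zero
      have hσγ0 : C.σ (γ : F) ≠ 0 := (map_ne_zero C.σ).2 hγ0
      have hζN : ζ * C.σ ζ = 1 := by
        rw [hζ, map_mul, map_inv₀, C.invol]; field_simp
      refine ⟨r₀ * ζ, by rw [map_mul]; linear_combination r₀ * C.σ r₀ * hζN, fun h' => ?_⟩
      have h4 : ζ ^ 4 = 1 := by
        rw [map_mul, map_mul] at h1
        rw [map_mul, map_mul, map_mul] at h'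
        have hz : r₀ * r₀ * ρ ≠ 0 := mul_ne_zero (mul_ne_zero hr₀0 hr₀0) hρ0
        have h5 : (r₀ * r₀ * ρ) * (ζ * ζ - C.σ ζ * C.σ ζ) = 0 := by
          linear_combination h' - C.σ ζ * C.σ ζ * h1
        have h6 := sub_eq_zero.1 ((mul_eq_zero.1 h5).resolve_left hz)
        linear_combination ζ ^ 2 * h6 + (ζ * C.σ ζ + 1) * hζN
      have hord : orderOf γ = C.q ^ 2 - 1 := by
        rw [orderOf_eq_card_of_forall_mem_zpowers
          (fun z => by
            obtain ⟨k, hk⟩ := hgen (z : F) z.ne_zero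
            exact ⟨k, Units.ext (by simpa using hk.symm)⟩), Nat.card_units, Nat.card_eq_fintype_card,
          C.card]
      have hpow : γ ^ ((C.q - 1) * 4) = 1 := by
        refine Units.ext ?_
        rw [Units.val_pow_eq_pow_val, Units.val_one, pow_mul]
        have e : (γ : F) ^ (C.q - 1) = ζ := by
          rw [hζ, C.pow, eq_mul_inv_iff_mul_eq₀ hγ0, ← pow_succ,
            Nat.sub_add_cancel (by have := C.two_le; omega)]
        rw [e, h4]
      have hdvd := orderOf_dvd_of_pow_eq_one hpow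
      have hq2 := C.two_le
      rw [hord] at hdvd
      have hle := Nat.le_of_dvd (by
        have : 1 ≤ C.q - 1 := by omega
        omega) hdvd
      have hq5 : C.q = 2 := by
        obtain ⟨d, hd⟩ : ∃ d, C.q = d + 2 := ⟨C.q - 2, by omega⟩
        rw [hd] at hle hq ⊢
        have e1 : (d + 2) ^ 2 - 1 = d * d + 4 * d + 3 := by
          rw [show (d + 2) ^ 2 = d * d + 4 * d + 3 + 1 by ring, Nat.add_sub_cancel]
        rw [e1, show d + 2 - 1 = d + 1 by omega] at hle
        have hd1 : d ≤ 1 := by nlinarith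
        omega
      refine h2 ?_
      have h0 := FiniteField.cast_card_eq_zero F
      rw [C.card, hq5, Nat.cast_pow, Nat.cast_ofNat] at h0
      exact eq_zero_of_pow_eq_zero h0
    · exact ⟨r₀, rfl, h1⟩

namespace Chain

variable (hH : Chain H l e u κ)

include hH in
/-- All root groups inside the chain. -/
theorem pairs_all {ρ r₀ : F} (hρ : herm C (app C κ (e l)) (e 0) = ρ) (hρ' : ρ + C.σ ρ ≠ 0)
    (hc1 : r₀ * r₀ * ρ - C.σ (r₀ * r₀ * ρ) ≠ 0)
    (hK : ∀ K : F → Prop, K 0 → K 1 → (∀ x y, K x → K y → K (x + y)) →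
        (∀ x y, K x → K y → K (x * y)) → K (-1) →
        K (2 * (ρ * C.σ ρ) * (r₀ * C.σ r₀)) →
        K (ρ * C.σ ρ * (r₀ * C.σ (r₀ * r₀ * ρ - C.σ (r₀ * r₀ * ρ)) +
          (r₀ * r₀ * ρ - C.σ (r₀ * r₀ * ρ)) * C.σ r₀)) →
        ∀ x, C.σ x = x → K x)
    (hz : MemE H (e 0) (r₀ • e l) 0) :
    ∀ i, i ≤ l → ∀ j, j ≤ l → ∀ r : F, MemE H (e i) (r • e j) 0 ∧
      ∀ c ∈ C.skew, MemE H (e i) 0 c := by
  have hl := hH.hl
  set c₁ := r₀ * r₀ * ρ - C.σ (r₀ * r₀ * ρ) with hc₁
  have hc₁s : c₁ ∈ C.skew := C.sub_mem _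
  have hz1 : MemE H (e 0) (r₀ • e 1) 0 := hH.pair_down hz 1 le_rfl hl
  have hC1 : MemE H (e 1) 0 c₁ := hH.transv_of_pairs hρ hz hz1
  have hc1P : Coeff H e l c₁ := hH.coeff_of_transv hc₁s hC1
  -- all transvections at `e 1`
  let K : F → Prop := fun x => ∀ c ∈ C.skew, MemE H (e 1) 0 c →
    c * x ∈ C.skew ∧ MemE H (e 1) 0 (c * x)
  have hfixed : ∀ x, C.σ x = x → K x := by
    have hmulskew : ∀ {c x : F}, c ∈ C.skew → C.σ x = x → c * x ∈ C.skew := by
      intro c x hc hx
      rw [C.mem_skew, map_mul, C.skew_eq hc, hx]; ring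
    have hNf : C.σ (ρ * C.σ ρ) = ρ * C.σ ρ := by rw [map_mul, C.invol, mul_comm]
    refine hK K ?_ ?_ ?_ ?_ ?_ ?_ ?_
    · intro c hc _; rw [mul_zero]; exact ⟨zero_mem _, memE_zero H _⟩
    · intro c hc h; rw [mul_one]; exact ⟨hc, h⟩
    · intro x y kx ky c hc h
      obtain ⟨hx, hx'⟩ := kx c hc h
      obtain ⟨hy, hy'⟩ := ky c hc h
      rw [mul_add]
      exact ⟨add_mem hx hy, (hx'.mul hy' (hH.ee 1 1 hl hl) (herm_zero_left C _)
        (herm_zero_left C _)).congr rfl (add_zero _) (by rw [herm_zero_left, sub_zero])⟩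
    · intro x y kx ky c hc h
      obtain ⟨hx, hx'⟩ := kx c hc h
      rw [← mul_assoc]
      exact ky _ hx hx'
    · intro c hc h
      rw [mul_neg_one]
      exact ⟨neg_mem hc, (h.inv (hH.ee 1 1 hl hl) (herm_zero_left C _)
        (by rw [herm_zero_left, add_zero]; exact hc)).congr rfl neg_zero (C.skew_eq hc)⟩
    · intro c hc h
      refine ⟨hmulskew hc ?_, (hH.mult_mem hρ hz hz hc h).congr rfl rfl (by ring)⟩
      rw [fixed_mul (fixed_mul (map_ofNat C.σ 2) hNf) (by rw [map_mul, C.invol, mul_comm])]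
    · intro c hc h
      refine ⟨hmulskew hc (fixed_mul hNf ?_), hH.mult_mem hρ hz hc1P hc h⟩
      simp only [map_add, map_mul, map_sub, C.invol, hc₁]
      ring
  have hT1 : ∀ c ∈ C.skew, MemE H (e 1) 0 c := fun c hc => by
    have hx : C.σ (c / c₁) = c / c₁ := by
      rw [map_div₀, C.skew_eq hc, C.skew_eq hc₁s, neg_div_neg_eq]
    have := (hfixed _ hx c₁ hc₁s hC1).2
    rwa [mul_div_cancel₀ _ hc1] at this
  have hT : ∀ i, i ≤ l → ∀ c ∈ C.skew, MemE H (e i) 0 c := fun i hi c hc =>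
    hH.transv_all (hT1 c hc) i hi
  -- all coefficients
  have hρ0 : C.σ ρ ≠ 0 := fun h => hρ' (by rw [h, (map_eq_zero C.σ).1 h, add_zero])
  have hQ : ∀ x : F, MemE H (e 0) (x • e 1) 0 := by
    intro x
    set f := (x + C.σ x) / (C.σ ρ + ρ) with hf
    have hff : C.σ f = f := by
      rw [hf, map_div₀, map_add, map_add, C.invol, C.invol, add_comm (C.σ x), add_comm ρ]
    have hskew : x - f * C.σ ρ ∈ C.skew := by
      rw [C.mem_skew, map_sub, map_mul, hff, C.invol]
      have hd : C.σ ρ + ρ ≠ 0 := by rwa [add_comm]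
      have e : f * (C.σ ρ + ρ) = x + C.σ x := div_mul_cancel₀ _ hd
      linear_combination -e
    obtain ⟨a, ha⟩ : ∃ a, a ∈ C.skew ∧ a ≠ 0 := C.exists_skew_ne
    have hb : f / a ∈ C.skew := by
      rw [C.mem_skew, map_div₀, hff, C.skew_eq ha.1]; field_simp; ring
    have h1 : MemE H (e 0) ((f * C.σ ρ) • e 1) 0 := by
      have h0 := hT 0 (Nat.zero_le l) a ha.1
      have hm := hH.transv_moved hρ (hH.coeff_of_transv hb (hT1 _ hb)) h0
      have hμ : -C.σ (f / a * ρ) = (f / a) * C.σ ρ := by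
        rw [map_mul, C.skew_eq hb]; ring
      rw [hμ] at hm
      have hsum := memE_of_sum ha.1 (hH.ee 0 0 (Nat.zero_le l) (Nat.zero_le l))
        (hH.hee' hl hl _ _) (herm_comm_zero C (hH.hee hl (Nat.zero_le l) _)) hm h0 (by
          rw [memE_smul, smul_zero]
          refine hT1 _ ?_
          rw [C.mem_skew, map_mul _ a, map_mul _ (f / a * C.σ ρ), C.skew_eq ha.1, C.invol]
          ring)
      rwa [smul_smul, ← mul_assoc, mul_div_cancel₀ _ ha.2] at hsum
    have h2 := h1.add (hH.pair_of_transv hskew (hT1 _ hskew))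
      (hH.ee 0 0 (Nat.zero_le l) (Nat.zero_le l)) (hH.hee hl (Nat.zero_le l) _)
      (hH.hee hl (Nat.zero_le l) _) (hH.hee' hl hl _ _)
    rwa [← add_smul, add_sub_cancel] at h2
  have hlt : ∀ i j, i < j → j ≤ l → ∀ r : F, MemE H (e i) (r • e j) 0 := by
    intro i j hij hj r
    have h0 := hH.pair_up (hQ r) (hT1 _ (C.sub_mem r)) (j - i) (by omega) (by omega)
    have := hH.pair_shift h0 i (by omega) (by omega)
    rwa [zero_add, Nat.sub_add_cancel hij.le] at this
  intro i hi j hj r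
  refine ⟨?_, hT i hi⟩
  rcases Nat.lt_trichotomy i j with h | h | h
  · exact hlt i j h hj r
  · subst h
    rw [memE_self, zero_add]
    exact hT i hi _ (C.sub_mem r)
  · have h1 := (hlt j i h hi (-C.σ r)).swap
    rw [memE_smul] at h1
    refine h1.congr rfl ?_ (zero_mul _)
    rw [map_neg, C.invol, neg_smul, smul_neg, neg_neg]

end Chain

end CfsgLib.SUThreeUnipotent
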