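import Cfsg.Agent.SUThreeUnipotent.Eichler

/-!
# Hyperbolic frames in odd dimension

`Frame C l`: vectors `e_0, …, e_l`, `f_0, …, f_l`, `x₀` with `h(e_i, f_j) = δ_ij`, `h(x₀, x₀) = 1`, spanning.
-/

set_option autoImplicit false

namespace CfsgLib.SUThreeUnipotent

open Matrix CfsgLib.RepBounds.Unit

variable {F : Type*} [Field F] [Fintype F] (C : ConjField F) {ι : Type*} [Fintype ι] [DecidableEq ι]

/-- A hyperbolic frame with a unit vector. -/
structure Frame (l : ℕ) (ι : Type*) [Fintype ι] [DecidableEq ι] where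
  /-- the first half -/
  e : ℕ → ι → F
  /-- the second half -/
  f : ℕ → ι → F
  /-- the unit vector -/
  x0 : ι → F
  ee : ∀ i j, i ≤ l → j ≤ l → herm C (e i) (e j) = 0
  ff : ∀ i j, i ≤ l → j ≤ l → herm C (f i) (f j) = 0
  ef : ∀ i j, i ≤ l → j ≤ l → herm C (e i) (f j) = if i = j then 1 else 0
  xx : herm C x0 x0 = 1
  ex : ∀ i, i ≤ l → herm C (e i) x0 = 0
  fx : ∀ i, i ≤ l → herm C (f i) x0 = 0
  span : ⊤ ≤ Submodule.span F (e '' Set.Iic l ∪ f '' Set.Iic l ∪ {x0})

variable {C} {l : ℕ} (Φ : Frame C l ι)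

theorem Frame.fe {i j : ℕ} (hi : i ≤ l) (hj : j ≤ l) :
    herm C (Φ.f i) (Φ.e j) = if i = j then 1 else 0 := by
  rw [← conj_herm, Φ.ef j i hj hi]
  by_cases h : i = j
  · rw [if_pos h.symm, if_pos h, map_one]
  · rw [if_neg (Ne.symm h), if_neg h, map_zero]

theorem Frame.xe {i : ℕ} (hi : i ≤ l) : herm C Φ.x0 (Φ.e i) = 0 := herm_comm_zero C (Φ.ex i hi)

theorem Frame.xf {i : ℕ} (hi : i ≤ l) : herm C Φ.x0 (Φ.f i) = 0 := herm_comm_zero C (Φ.fx i hi)

/-- The totally isotropic span of the `e`'s. -/
def Frame.W : Submodule F (ι → F) := Submodule.span F (Φ.e '' Set.Iic l)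

theorem Frame.e_mem {i : ℕ} (hi : i ≤ l) : Φ.e i ∈ Φ.W :=
  Submodule.subset_span ⟨i, hi, rfl⟩

/-- Nondegeneracy against the frame. -/
theorem Frame.eq_zero {x : ι → F} (he : ∀ i, i ≤ l → herm C x (Φ.e i) = 0)
    (hf : ∀ i, i ≤ l → herm C x (Φ.f i) = 0) (hx : herm C x Φ.x0 = 0) : x = 0 := by
  have hall : ∀ v : ι → F, herm C x v = 0 := by
    intro v
    induction Φ.span (Submodule.mem_top (x := v)) using Submodule.span_induction with
    | mem v hv =>
      rcases hv with (⟨i, hi, rfl⟩ | ⟨i, hi, rfl⟩) | hv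
      · exact he i hi
      · exact hf i hi
      · rw [Set.mem_singleton_iff.1 hv]; exact hx
    | zero => exact herm_zero_right C x
    | add a b _ _ ha hb => rw [herm_add_right, ha, hb, add_zero]
    | smul r a _ ha => rw [herm_smul_right, ha, mul_zero]
  by_contra h
  obtain ⟨v, hv⟩ := exists_herm_eq C h 1
  rw [← conj_herm, hall v, map_zero] at hv
  exact zero_ne_one hv

theorem Frame.ext {x y : ι → F} (he : ∀ i, i ≤ l → herm C x (Φ.e i) = herm C y (Φ.e i))
    (hf : ∀ i, i ≤ l → herm C x (Φ.f i) = herm C y (Φ.f i))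
    (hx : herm C x Φ.x0 = herm C y Φ.x0) : x = y := by
  rw [← sub_eq_zero]
  refine Φ.eq_zero (fun i hi => ?_) (fun i hi => ?_) ?_
  · rw [herm_sub_left, he i hi, sub_self]
  · rw [herm_sub_left, hf i hi, sub_self]
  · rw [herm_sub_left, hx, sub_self]

theorem herm_sum_left {κ : Type*} (s : Finset κ) (x : κ → ι → F) (v : ι → F) :
    herm C (∑ i ∈ s, x i) v = ∑ i ∈ s, herm C (x i) v := by
  classical
  induction s using Finset.induction with
  | empty => simp [herm_zero_left]
  | insert i s his ih => rw [Finset.sum_insert his, Finset.sum_insert his, herm_add_left, ih]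

theorem Frame.expand (x : ι → F) (he : ∀ i, i ≤ l → herm C x (Φ.e i) = 0) :
    x = (∑ i ∈ Finset.range (l + 1), herm C x (Φ.f i) • Φ.e i) + herm C x Φ.x0 • Φ.x0 := by
  refine Φ.ext (fun j hj => ?_) (fun j hj => ?_) ?_
  · rw [he j hj, herm_add_left, herm_sum_left, herm_smul_left, Φ.xe hj, mul_zero, add_zero]
    refine (Finset.sum_eq_zero fun i hi => ?_).symm
    rw [herm_smul_left, Φ.ee i j (by simpa [Nat.lt_succ_iff] using hi) hj, mul_zero]
  · rw [herm_add_left, herm_sum_left, herm_smul_left, Φ.xf hj, mul_zero, add_zero,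
      Finset.sum_eq_single j]
    · rw [herm_smul_left, Φ.ef j j hj hj, if_pos rfl, mul_one]
    · intro i hi hij
      rw [herm_smul_left, Φ.ef i j (by simpa [Nat.lt_succ_iff] using hi) hj, if_neg hij, mul_zero]
    · intro h; exact absurd (Finset.mem_range.2 (by omega)) h
  · rw [herm_add_left, herm_sum_left, herm_smul_left, Φ.xx, mul_one,
      Finset.sum_eq_zero fun i hi => by
        rw [herm_smul_left, Φ.ex i (by simpa [Nat.lt_succ_iff] using hi), mul_zero], zero_add]

theorem Frame.herm_W {x y : ι → F} (hx : x ∈ Φ.W) (hy : y ∈ Φ.W) : herm C x y = 0 := by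
  induction hx using Submodule.span_induction with
  | mem x hx =>
    obtain ⟨i, hi, rfl⟩ := hx
    induction hy using Submodule.span_induction with
    | mem y hy => obtain ⟨j, hj, rfl⟩ := hy; exact Φ.ee i j hi hj
    | zero => exact herm_zero_right C _
    | add a b _ _ ha hb => rw [herm_add_right, ha, hb, add_zero]
    | smul r a _ ha => rw [herm_smul_right, ha, mul_zero]
  | zero => exact herm_zero_left C _
  | add a b _ _ ha hb => rw [herm_add_left, ha, hb, add_zero]
  | smul r a _ ha => rw [herm_smul_left, ha, mul_zero]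

theorem Frame.herm_x0_W {x : ι → F} (hx : x ∈ Φ.W) : herm C x Φ.x0 = 0 := by
  induction hx using Submodule.span_induction with
  | mem x hx => obtain ⟨i, hi, rfl⟩ := hx; exact Φ.ex i hi
  | zero => exact herm_zero_left C _
  | add a b _ _ ha hb => rw [herm_add_left, ha, hb, add_zero]
  | smul r a _ ha => rw [herm_smul_left, ha, mul_zero]

/-- An isotropic vector orthogonal to the `e`'s lies in their span. -/
theorem Frame.mem_W_of_orth {x : ι → F} (hx : herm C x x = 0)
    (he : ∀ a ∈ Φ.W, herm C a x = 0) : x ∈ Φ.W := by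
  have h := Φ.expand x fun i hi => herm_comm_zero C (he _ (Φ.e_mem hi))
  set w := ∑ i ∈ Finset.range (l + 1), herm C x (Φ.f i) • Φ.e i with hw
  have hwm : w ∈ Φ.W := sum_mem fun i hi =>
    Φ.W.smul_mem _ (Φ.e_mem (by simpa [Nat.lt_succ_iff] using hi))
  have h2 : herm C x Φ.x0 * C.σ (herm C x Φ.x0) = 0 := by
    have e : herm C x x = herm C (w + herm C x Φ.x0 • Φ.x0) (w + herm C x Φ.x0 • Φ.x0) := by rw [← h]
    rw [hx, herm_add_left, herm_add_right, herm_add_right, Φ.herm_W hwm hwm, herm_smul_right,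
      herm_smul_right, herm_smul_left, herm_smul_left, Φ.herm_x0_W hwm,
      herm_comm_zero C (Φ.herm_x0_W hwm), Φ.xx] at e
    linear_combination -e
  have h3 : herm C x Φ.x0 = 0 := by
    rcases mul_eq_zero.1 h2 with h3 | h3
    · exact h3
    · exact (map_eq_zero C.σ).1 h3
  rw [h3, zero_smul, add_zero] at h
  rw [h]; exact hwm

/-- Some non-zero vector of the span is orthogonal to a given one. -/
theorem Frame.exists_orth (hl : 1 ≤ l) (v : ι → F) : ∃ a ∈ Φ.W, a ≠ 0 ∧ herm C a v = 0 := by
  have hne : ∀ i, i ≤ l → Φ.e i ≠ 0 := fun i hi h => by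
    have := Φ.ef i i hi hi
    rw [h, herm_zero_left, if_pos rfl] at this
    exact zero_ne_one this
  by_cases h0 : herm C (Φ.e 0) v = 0
  · exact ⟨_, Φ.e_mem (Nat.zero_le l), hne 0 (Nat.zero_le l), h0⟩
  refine ⟨herm C (Φ.e 1) v • Φ.e 0 - herm C (Φ.e 0) v • Φ.e 1,
    Φ.W.sub_mem (Φ.W.smul_mem _ (Φ.e_mem (Nat.zero_le l))) (Φ.W.smul_mem _ (Φ.e_mem hl)), ?_, ?_⟩
  · intro h
    have h1 : herm C (herm C (Φ.e 1) v • Φ.e 0 - herm C (Φ.e 0) v • Φ.e 1) (Φ.f 1) = 0 := by
      rw [h, herm_zero_left]
    rw [herm_sub_left, herm_smul_left, herm_smul_left, Φ.ef 0 1 (Nat.zero_le l) hl,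
      Φ.ef 1 1 hl hl, if_neg Nat.zero_ne_one, if_pos rfl] at h1
    exact h0 (by linear_combination -h1)
  · rw [herm_sub_left, herm_smul_left, herm_smul_left]; ring

/-! ### Existence -/

/-- The standard vector `ε_i` (zero out of range). -/
def stdVec (n i : ℕ) : Fin n → F := if h : i < n then Pi.single ⟨i, h⟩ 1 else 0

theorem herm_stdVec {n i j : ℕ} (hi : i < n) (hj : j < n) :
    herm C (stdVec n i) (stdVec n j) = if i = j then 1 else 0 := by
  simp only [stdVec, dif_pos hi, dif_pos hj, herm]
  rw [Finset.sum_eq_single (⟨j, hj⟩ : Fin n)]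
  · simp [Pi.single_apply, Fin.ext_iff, eq_comm]
  · intro b _ hb
    simp [Pi.single_apply, hb]
  · simp

/-- Frames exist in dimension `2 l + 3`. -/
theorem exists_frame (C : ConjField F) (l : ℕ) : Nonempty (Frame C l (Fin (2 * l + 3))) := by
  obtain ⟨α, hα⟩ := C.exists_norm_neg_one
  obtain ⟨t, ht⟩ := C.exists_trace_one
  have hα0 : α ≠ 0 := by rintro rfl; simp at hα
  set n := 2 * l + 3 with hn
  let e : ℕ → Fin n → F := fun i => stdVec n (2 * i) + α • stdVec n (2 * i + 1)
  let f : ℕ → Fin n → F := fun i => stdVec n (2 * i) + (-t) • e i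
  have hee : ∀ i j, i ≤ l → j ≤ l → herm C (e i) (e j) = 0 := fun i j hi hj => by
    simp only [e, herm_add_left, herm_add_right, herm_smul_left, herm_smul_right,
      herm_stdVec (C := C) (show 2 * i < n by omega) (show 2 * j < n by omega),
      herm_stdVec (C := C) (show 2 * i < n by omega) (show 2 * j + 1 < n by omega),
      herm_stdVec (C := C) (show 2 * i + 1 < n by omega) (show 2 * j < n by omega),
      herm_stdVec (C := C) (show 2 * i + 1 < n by omega) (show 2 * j + 1 < n by omega)]
    rcases eq_or_ne i j with rfl | hij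
    · rw [if_pos rfl, if_neg (by omega), if_neg (by omega), if_pos rfl]
      linear_combination hα
    · rw [if_neg (by omega), if_neg (by omega), if_neg (by omega), if_neg (by omega)]
      ring
  have heε : ∀ i j, i ≤ l → j ≤ l → herm C (e i) (stdVec n (2 * j)) = if i = j then 1 else 0 :=
    fun i j hi hj => by
    simp only [e, herm_add_left, herm_smul_left,
      herm_stdVec (C := C) (show 2 * i < n by omega) (show 2 * j < n by omega),
      herm_stdVec (C := C) (show 2 * i + 1 < n by omega) (show 2 * j < n by omega)]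
    rw [if_neg (show ¬ 2 * i + 1 = 2 * j by omega), mul_zero, add_zero]
    by_cases h : i = j
    · rw [if_pos h, if_pos (by omega)]
    · rw [if_neg h, if_neg (by omega)]
  refine ⟨⟨e, f, stdVec n (2 * l + 2), hee, fun i j hi hj => ?_, fun i j hi hj => ?_, ?_,
    fun i hi => ?_, fun i hi => ?_, ?_⟩⟩
  · simp only [f, herm_add_left, herm_add_right, herm_smul_left, herm_smul_right, hee i j hi hj,
      heε i j hi hj, herm_stdVec (C := C) (show 2 * i < n by omega) (show 2 * j < n by omega)]
    rw [← conj_herm C (e j) (stdVec n (2 * i)), heε j i hj hi]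
    rcases eq_or_ne i j with rfl | hij
    · simp only [if_true, map_one, map_neg]
      linear_combination -ht
    · rw [if_neg hij.symm, if_neg hij, if_neg (by omega), map_zero]
      ring
  · simp only [f, herm_add_right, herm_smul_right, hee i j hi hj, heε i j hi hj, mul_zero, add_zero]
  · rw [herm_stdVec (by omega) (by omega), if_pos rfl]
  · simp only [e, herm_add_left, herm_smul_left,
      herm_stdVec (C := C) (show 2 * i < n by omega) (show 2 * l + 2 < n by omega),
      herm_stdVec (C := C) (show 2 * i + 1 < n by omega) (show 2 * l + 2 < n by omega)]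
    rw [if_neg (by omega), if_neg (by omega)]
    ring
  · simp only [f, e, herm_add_left, herm_smul_left,
      herm_stdVec (C := C) (show 2 * i < n by omega) (show 2 * l + 2 < n by omega),
      herm_stdVec (C := C) (show 2 * i + 1 < n by omega) (show 2 * l + 2 < n by omega)]
    rw [if_neg (by omega), if_neg (by omega)]
    ring
  · set S := Submodule.span F (e '' Set.Iic l ∪ f '' Set.Iic l ∪ {stdVec n (2 * l + 2)})
    have hev : ∀ i, i ≤ l → stdVec n (2 * i) ∈ S := fun i hi => by
      have h1 : f i + t • e i ∈ S := S.add_mem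
        (Submodule.subset_span (Or.inl (Or.inr ⟨i, hi, rfl⟩)))
        (S.smul_mem t (Submodule.subset_span (Or.inl (Or.inl ⟨i, hi, rfl⟩))))
      simpa [f, add_assoc, ← add_smul] using h1
    have hbase : ∀ k, k < n → stdVec n k ∈ S := fun k hk => by
      rcases Nat.even_or_odd' k with ⟨i, rfl | rfl⟩
      · rcases Nat.lt_or_ge l i with h | h
        · rw [show 2 * i = 2 * l + 2 by omega]
          exact Submodule.subset_span (Or.inr rfl)
        · exact hev i h
      · have h1 : α⁻¹ • (e i - stdVec n (2 * i)) ∈ S := S.smul_mem _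
          (S.sub_mem (Submodule.subset_span (Or.inl (Or.inl ⟨i, by show i ≤ l; omega, rfl⟩)))
            (hev i (by omega)))
        simpa [e, smul_smul, inv_mul_cancel₀ hα0] using h1
    intro x _
    rw [pi_eq_sum_univ' x]
    refine S.sum_mem fun i _ => S.smul_mem _ ?_
    have := hbase i i.2
    simp only [stdVec, dif_pos i.2] at this
    simpa using this

end CfsgLib.SUThreeUnipotent
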